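import Mathlib
import Cfsg.Agent.Lib.Helper5.Chev.SteinbergFix
import Cfsg.Agent.Lib.Helper5.Chev.Poincare
import Cfsg.Agent.Lib.Helper5.Chev.LeviAll
import Cfsg.Agent.Lib.Helper5.Chev.NormRad
import Cfsg.Agent.Lib.Helper5.Chev.BNAxiom

/-!
# The longest element of a parabolic subgroup of the Weyl group of a Chevalley group (helper5)

For a set `K` of fundamental roots there is a word `n_K` in the `n_j`, `j ∈ K`, with
`B ∩ n_K⁻¹ B n_K = U_K H`, and having every `j ∈ K` as a left descent.
-/

set_option autoImplicit false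

namespace Cfsg.Agent.Lib.Helper5.Unip

open Cfsg Cfsg.Lie Cfsg.Agent.Lib.Helper5 Cfsg.Agent.Lib.Helper5.Chev
open scoped Matrix

/-! ### words with the largest number of inversions -/

/-- a word in `K` with the largest number of inversions -/
theorem exists_max_inv (W : WD) (K : Set ℕ) :
    ∃ L, W.IsWordIn K L ∧ ∀ L', W.IsWordIn K L' → W.inv L' ≤ W.inv L := by
  classical
  have h0 : ∃ L, W.IsWordIn K L ∧ W.inv L = W.inv [] := ⟨[], W.isWordIn_nil K, rfl⟩
  have hspec := Nat.findGreatest_spec (P := fun m => ∃ L, W.IsWordIn K L ∧ W.inv L = m)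
    (WD.inv_le W []) h0
  obtain ⟨L, hL, hLm⟩ := hspec
  refine ⟨L, hL, ?_⟩
  intro L' hL'
  rw [hLm]
  exact Nat.le_findGreatest (WD.inv_le W L') ⟨L', hL', rfl⟩

/-- such a word maps the fundamental roots of `K` to negative roots -/
theorem max_inv_desc {W : WD} (hV : W.Valid) (K : Set ℕ) (L : List ℕ) (hL : W.IsWordIn K L)
    (hmax : ∀ L', W.IsWordIn K L' → W.inv L' ≤ W.inv L) (i : ℕ) (hi : i < W.l) (hiK : i ∈ K) :
    W.act L (W.p i) < W.h := by
  by_contra hcon
  rw [not_lt] at hcon
  have h1 := hV.inv_asc_eq hL.isWord hi hcon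
  have h2 := hmax (L ++ [i]) (hL.append _ (WD.IsWordIn.singleton _ hi hiK))
  omega

theorem list_sum_nonpos (l : List ℤ) (h : ∀ x ∈ l, x ≤ 0) : l.sum ≤ 0 := by
  induction l with
  | nil => simp
  | cons a l ih =>
    rw [List.sum_cons]
    have h1 := h a List.mem_cons_self
    have h2 := ih (fun x hx => h x (List.mem_cons_of_mem _ hx))
    omega

section roots

variable {T : FD} {D : ChevalleyDatum}

/-- a word mapping the fundamental roots of `K` to negative roots maps the positive roots of the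
subsystem of `K` to negative roots -/
theorem neg_of_desc_all (hD : D ∈ [chevG2, chevB2, chevD4, chevF4, chevE6, chevE7, chevE8])
    (hA : T.Agrees D) (Bs : List ℕ) (mLL : List (List ℕ))
    (hB : ∀ i < D.rank, ReflChecks T D i (Bs.getD i 0)) (h1 : Cox1 T Bs)
    (h2 : ∀ i < T.rank, ∀ j < T.rank, i ≠ j → Cox2 T Bs mLL i j)
    (K : Set ℕ) (x : List ℕ) (hx : (wdOf T Bs mLL).IsWord x)
    (hdesc : ∀ j < T.rank, j ∈ K → (wdOf T Bs mLL).act x (T.simple j) < T.nroots / 2) (β : ℕ)
    (hβ : β < T.nroots) (hpos : T.nroots / 2 ≤ β)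
    (hsupp : ∀ k < T.rank, k ∉ K → vOf T β k = 0) :
    (wdOf T Bs mLL).act x β < T.nroots / 2 := by
  have hl : T.rank = D.rank := hA.rank_eq
  have hn : T.nroots = D.nroots := hA.nroots_eq
  have hV := wdOf_valid hA Bs mLL hB h1 h2
  have hxD : ∀ i ∈ x, i < D.rank := fun i hi => hl ▸ hx i hi
  by_contra hcon
  rw [not_lt] at hcon
  have hslt : (wdOf T Bs mLL).act x β < T.nroots := hV.act_lt hx hβ
  obtain ⟨k, hk, hkpos⟩ := h1.v_pos _ hslt hcon
  rw [vOf_act_sum hA Bs mLL hB h1 x hxD β (hn ▸ hβ) k hk] at hkpos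
  have hle : ((List.range T.rank).map fun j =>
      vOf T β j * vOf T ((wdOf T Bs mLL).act x (T.simple j)) k).sum ≤ 0 := by
    apply list_sum_nonpos
    intro t ht
    rw [List.mem_map] at ht
    obtain ⟨j, hj, rfl⟩ := ht
    rw [List.mem_range] at hj
    by_cases hjK : j ∈ K
    · apply mul_nonpos_of_nonneg_of_nonpos (v_nonneg hD hA β (hn ▸ hβ) (hn ▸ hpos) j hj)
      have hpj : T.simple j < T.nroots := hV.p_lt j hj
      exact h1.v_neg _ (hV.act_lt hx hpj) (hdesc j hj hjK) k hk
    · rw [hsupp j hj hjK, zero_mul]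
  omega

end roots

/-! ### the group elements -/

section group

variable {F : Type*} [Field F]

/-- the root elements of the positive roots of the subsystem of `K` -/
def leviPosSet (F : Type*) [Field F] (D : ChevalleyDatum) (K : Set ℕ) : Set (GL D.Idx F) :=
  {g | ∃ (r : ℕ) (t : F), D.IsPosRoot r ∧ D.InRootSub K r ∧
    (g : Matrix D.Idx D.Idx F) = D.x F r t}

theorem posUnipotent_eq_sup (D : ChevalleyDatum) (K : Set ℕ) :
    D.posUnipotent F = D.unipotentRadical F K ⊔ Subgroup.closure (leviPosSet F D K) := by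
  unfold ChevalleyDatum.posUnipotent ChevalleyDatum.unipotentRadical
  rw [← Subgroup.closure_union]
  congr 1
  ext g
  constructor
  · rintro ⟨r, t, hr, hg⟩
    by_cases h : D.InRootSub K r
    · right
      exact ⟨r, t, hr, h, hg⟩
    · left
      exact ⟨r, t, hr, h, hg⟩
  · rintro (⟨r, t, hr, _, hg⟩ | ⟨r, t, hr, _, hg⟩)
    · exact ⟨r, t, hr, hg⟩
    · exact ⟨r, t, hr, hg⟩

theorem unipotentRadical_le_pos (D : ChevalleyDatum) (K : Set ℕ) :
    D.unipotentRadical F K ≤ D.posUnipotent F := by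
  rw [posUnipotent_eq_sup D K]
  exact le_sup_left

/-- the generators of `N_K` -/
def nKSet (F : Type*) [Field F] (D : ChevalleyDatum) (K : Set ℕ) : Set (GL D.Idx F) :=
  {g | ∃ j ∈ K, j < D.rank ∧ (g : Matrix D.Idx D.Idx F) = D.nMat F (D.simple j) 1}

/-- the longest element of the subgroup `W_K` of the Weyl group -/
theorem exists_nK (D : ChevalleyDatum)
    (hD : D ∈ [chevG2, chevB2, chevD4, chevF4, chevE6, chevE7, chevE8]) (K : Set ℕ)
    (hadd : AllAdd F D) :
    ∃ n1 : GL D.Idx F, n1 ∈ Subgroup.closure (nKSet F D K) ∧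
      (∀ j ∈ K, j < D.rank →
        n1⁻¹ * hadd.xU (D.neg (D.simple j)) (-1) * n1 ∈ D.posUnipotent F) ∧
      (∀ β ∈ D.borelSubgroup F, (n1 * β * n1⁻¹ ∈ D.borelSubgroup F ↔
        β ∈ D.unipotentRadical F K ⊔ D.diagonalSubgroup F)) := by
  have hH := hform_all' (F := F) D hD
  obtain ⟨T, Bs, mLL, gH, baseH, fuel, hA, hB, hr, hbase, hcox⟩ := cox_known D hD
  obtain ⟨h1, h2⟩ := cox_of_check T Bs mLL hcox
  have hl : T.rank = D.rank := hA.rank_eq
  have hn : T.nroots = D.nroots := hA.nroots_eq
  have hV := wdOf_valid hA Bs mLL hB h1 h2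
  obtain ⟨L, hL, hmax⟩ := exists_max_inv (wdOf T Bs mLL) K
  have hLw : (wdOf T Bs mLL).IsWord L := hL.isWord
  have hLD : ∀ i ∈ L, i < D.rank := fun i hi => hl ▸ hLw i hi
  have hLr : (wdOf T Bs mLL).IsWordIn K L.reverse := hL.reverse
  have hLrD : ∀ i ∈ L.reverse, i < D.rank := fun i hi => hLD i (List.mem_reverse.1 hi)
  have hmaxr : ∀ L', (wdOf T Bs mLL).IsWordIn K L' →
      (wdOf T Bs mLL).inv L' ≤ (wdOf T Bs mLL).inv L.reverse := by
    intro L' hL'
    rw [hV.inv_reverse hLw]
    exact hmax L' hL'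
  have hHB : D.diagonalSubgroup F ≤ D.borelSubgroup F := le_sup_right
  have hUB : D.posUnipotent F ≤ D.borelSubgroup F := le_sup_left
  have hNH : D.monomialSubgroup F ≤ Subgroup.normalizer (D.diagonalSubgroup F : Set (GL D.Idx F)) :=
    (Subgroup.normal_subgroupOf_iff_le_normalizer le_sup_left).1 (diagonal_normal_all D hD)
  have hHU := (borel_semidirect_all (F := F) D hD).1
  have hPKN := (levi_decomposition_all (F := F) D hD K).1
  have hBP : D.borelSubgroup F ≤ D.parabolicSubgroup F K := le_sup_left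
  have hUKU : D.unipotentRadical F K ≤ D.posUnipotent F := unipotentRadical_le_pos D K
  -- the descents
  have hltW : ∀ j < D.rank, j < (wdOf T Bs mLL).l := by
    intro j hj
    show j < T.rank
    rw [hl]
    exact hj
  have hdesc : ∀ j < D.rank, j ∈ K → wW Bs L (D.simple j) < D.nroots / 2 := by
    intro j hj hjK
    have this : (wdOf T Bs mLL).act L (T.simple j) < T.nroots / 2 :=
      max_inv_desc hV K L hL hmax j (hltW j hj) hjK
    rw [act_eq_wW, hn, ← FD.simple_eq' hA j hj] at this
    exact this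
  have hdescr : ∀ j < D.rank, j ∈ K → wW Bs L.reverse (D.simple j) < D.nroots / 2 := by
    intro j hj hjK
    have this : (wdOf T Bs mLL).act L.reverse (T.simple j) < T.nroots / 2 :=
      max_inv_desc hV K L.reverse hLr hmaxr j (hltW j hj) hjK
    rw [act_eq_wW, hn, ← FD.simple_eq' hA j hj] at this
    exact this
  have hn1K : nWordU hA hadd L ∈ Subgroup.closure (nKSet F D K) := by
    unfold nWordU
    apply Subgroup.list_prod_mem
    intro g hg
    rw [List.mem_map] at hg
    obtain ⟨i, hi, rfl⟩ := hg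
    apply Subgroup.subset_closure
    exact ⟨i, (hL i hi).2, hLD i hi, nUi_val hA hadd (hLD i hi)⟩
  have hn1P : nWordU hA hadd L ∈ D.parabolicSubgroup F K := by
    have : Subgroup.closure (nKSet F D K) ≤ D.parabolicSubgroup F K := le_sup_right
    exact this hn1K
  have hn1N : nWordU hA hadd L ∈ D.monomialSubgroup F := nWordU_mem hA hadd L
  refine ⟨nWordU hA hadd L, hn1K, ?_, ?_⟩
  · -- the left descents
    intro j hjK hj
    obtain ⟨hp, hq⟩ := simple_lt_all D hD j hj
    obtain ⟨h, hh, e⟩ := nWordU_inv hA hadd Bs hB hH L hLD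
    obtain ⟨t', e'⟩ := conj_word_diag hD hA hadd Bs hB L.reverse hLrD h hh
      (D.neg (D.simple j)) hq (-1 : F)
    have e2 : (nWordU hA hadd L)⁻¹ * hadd.xU (D.neg (D.simple j)) (-1) * nWordU hA hadd L
        = hadd.xU (wW Bs L.reverse (D.neg (D.simple j))) t' := by
      rw [← e', ← e]
      group
    rw [e2]
    apply Subgroup.subset_closure
    refine ⟨_, t', ?_, rfl⟩
    have hlt := wW_lt hA Bs hB L.reverse hLrD _ hq
    rw [pos_iff_all D hD _ hlt, wW_neg hA Bs hB L.reverse hLrD _ hp]
    exact neg_ge_half_all D hD _ (wW_lt hA Bs hB L.reverse hLrD _ hp) (hdescr j hj hjK)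
  · -- the stabilizer of the big cell
    -- the conjugates of the root elements of the subsystem are negative
    have hneg : (Subgroup.closure (leviPosSet F D K)).map
        (MulAut.conj (nWordU hA hadd L)).toMonoidHom ≤ D.negUnipotent F := by
      rw [Subgroup.map_le_iff_le_comap, Subgroup.closure_le]
      rintro g ⟨r, t, hr, hrK, hg⟩
      have hg' : g = hadd.xU r t := Units.ext hg
      subst hg'
      rw [SetLike.mem_coe, Subgroup.mem_comap]
      show nWordU hA hadd L * hadd.xU r t * (nWordU hA hadd L)⁻¹ ∈ D.negUnipotent F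
      obtain ⟨hlt, t', e⟩ := conj_word hA hadd Bs hB L hLD r hr.1 t
      rw [e]
      apply Subgroup.subset_closure
      refine ⟨_, t', ?_, rfl⟩
      apply neg_of_lt_half D hD _ hlt
      have := neg_of_desc_all hD hA Bs mLL hB h1 h2 K L hLw (by
        intro j hj hjK
        have hj' : j < D.rank := hl ▸ hj
        exact max_inv_desc hV K L hL hmax j hj hjK) r (hn ▸ hr.1) (by
          rw [hn]
          exact (pos_iff_all D hD r hr.1).1 hr) (by
        intro k hk hkK
        unfold vOf
        rw [hA.coroot_eq r hr.1 k (hl ▸ hk)]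
        exact hrK.2 k (hl ▸ hk) hkK)
      rw [act_eq_wW, hn] at this
      exact this
    intro β hβ
    constructor
    · intro hc
      -- decompose β
      have hβ' := hβ
      unfold ChevalleyDatum.borelSubgroup at hβ'
      rw [← SetLike.mem_coe, Subgroup.coe_mul_of_right_le_normalizer_left _ _ hHU,
        Set.mem_mul] at hβ'
      obtain ⟨u, hu, d, hd, rfl⟩ := hβ'
      have hULN : Subgroup.closure (leviPosSet F D K)
          ≤ Subgroup.normalizer (D.unipotentRadical F K : Set (GL D.Idx F)) := by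
        have h3 : Subgroup.closure (leviPosSet F D K) ≤ D.posUnipotent F := by
          rw [posUnipotent_eq_sup D K]
          exact le_sup_right
        exact h3.trans (hUB.trans (hBP.trans hPKN))
      rw [posUnipotent_eq_sup D K,
        Subgroup.coe_mul_of_right_le_normalizer_left _ _ hULN, Set.mem_mul] at hu
      obtain ⟨v, hv, l, hl', rfl⟩ := hu
      set n1 := nWordU hA hadd L with hn1
      have hcv : n1 * v * n1⁻¹ ∈ D.borelSubgroup F :=
        hUB (hUKU (conj_mem_of_normalizer _ _ _ (hPKN hn1P) hv).1)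
      have hcd : n1 * d * n1⁻¹ ∈ D.borelSubgroup F :=
        hHB (conj_mem_of_normalizer _ _ _ (hNH hn1N) hd).1
      have hcl : n1 * l * n1⁻¹ ∈ D.borelSubgroup F := by
        have e : n1 * l * n1⁻¹ = (n1 * v * n1⁻¹)⁻¹ * (n1 * (v * l * d) * n1⁻¹) * (n1 * d * n1⁻¹)⁻¹ := by
          group
        rw [e]
        exact Subgroup.mul_mem _ (Subgroup.mul_mem _ (Subgroup.inv_mem _ hcv) hc)
          (Subgroup.inv_mem _ hcd)
      have hclV : n1 * l * n1⁻¹ ∈ D.negUnipotent F := hneg ⟨l, hl', rfl⟩
      have hbot : n1 * l * n1⁻¹ ∈ D.borelSubgroup F ⊓ D.negUnipotent F := ⟨hcl, hclV⟩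
      rw [(borel_inf_neg_all D hD).1, Subgroup.mem_bot] at hbot
      have hl1 : l = 1 := by
        have e : l = n1⁻¹ * (n1 * l * n1⁻¹) * n1 := by group
        rw [e, hbot]
        group
      rw [hl1, mul_one]
      exact Subgroup.mul_mem_sup hv hd
    · intro hβK
      set n1 := nWordU hA hadd L with hn1
      have hle : D.unipotentRadical F K ⊔ D.diagonalSubgroup F
          ≤ (D.borelSubgroup F).comap (MulAut.conj n1).toMonoidHom := by
        apply sup_le
        · intro v hv
          rw [Subgroup.mem_comap]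
          exact hUB (hUKU (conj_mem_of_normalizer _ _ _ (hPKN hn1P) hv).1)
        · intro d hd
          rw [Subgroup.mem_comap]
          exact hHB (conj_mem_of_normalizer _ _ _ (hNH hn1N) hd).1
      exact hle hβK

end group

end Cfsg.Agent.Lib.Helper5.Unip
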