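import Mathlib
import Cfsg.Agent.Lib.Helper5.Unip.ChevK
import Cfsg.Agent.Lib.Helper5.Chev.CardAll
import Cfsg.Agent.Lib.Helper5.Chev.HCard
import Cfsg.Agent.Lib.Helper5.Chev.BorelCard
import Cfsg.Agent.Lib.Helper5.Chev.UCard

/-!
# Facts on the subgroups `U`, `H`, `U_K` of a Chevalley group in characteristic `p` (helper5)
-/

set_option autoImplicit false

namespace Cfsg.Agent.Lib.Helper5.Unip

open Cfsg Cfsg.Lie Cfsg.Agent.Lib.Helper5 Cfsg.Agent.Lib.Helper5.Chev
open scoped Matrix

variable {F : Type*} [Field F] [Fintype F]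

/-- `p` divides the order of the field -/
theorem p_dvd_card (p : ℕ) [Fact p.Prime] [CharP F p] : p ∣ Fintype.card F := by
  obtain ⟨n, _, hn⟩ := FiniteField.card F p
  rw [hn]
  exact dvd_pow_self p n.ne_zero

/-- `p` does not divide `q ^ k - 1` -/
theorem p_not_dvd_pow_sub_one (p : ℕ) [hp : Fact p.Prime] [CharP F p] (k : ℕ) (hk : 1 ≤ k) :
    ¬ p ∣ Fintype.card F ^ k - 1 := by
  intro h
  have h1 : p ∣ Fintype.card F ^ k := dvd_pow (p_dvd_card (F := F) p) (by omega)
  have hpos : 1 ≤ Fintype.card F ^ k := Nat.one_le_pow _ _ Fintype.card_pos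
  have h2 : p ∣ Fintype.card F ^ k - (Fintype.card F ^ k - 1) := Nat.dvd_sub h1 h
  have e : Fintype.card F ^ k - (Fintype.card F ^ k - 1) = 1 := by omega
  rw [e] at h2
  exact hp.out.one_lt.ne' (Nat.dvd_one.1 h2)

/-- the order of `H` is prime to `p` -/
theorem card_diagonal_coprime (D : ChevalleyDatum)
    (hD : D ∈ [chevG2, chevB2, chevD4, chevF4, chevE6, chevE7, chevE8]) (p : ℕ)
    [hp : Fact p.Prime] [CharP F p] : Nat.Coprime p (Nat.card (D.diagonalSubgroup F)) := by
  classical
  rw [card_diagonal_eq hD]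
  have h1 := Subgroup.card_range_dvd (zact (G := Fˣ) (cartanM D))
  have h2 : Nat.card (Fin D.rank → Fˣ) = (Fintype.card F - 1) ^ D.rank := by
    rw [Nat.card_fun, Nat.card_eq_fintype_card, Fintype.card_units, Nat.card_eq_fintype_card,
      Fintype.card_fin]
  rw [h2] at h1
  apply Nat.Coprime.coprime_dvd_right h1
  apply Nat.Coprime.pow_right
  rw [Nat.Prime.coprime_iff_not_dvd hp.out]
  have := p_not_dvd_pow_sub_one (F := F) p 1 (le_refl 1)
  rwa [pow_one] at this

/-- `U` is a `p`-group -/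
theorem isPGroup_posUnipotent (D : ChevalleyDatum)
    (hD : D ∈ [chevG2, chevB2, chevD4, chevF4, chevE6, chevE7, chevE8]) (p : ℕ)
    [Fact p.Prime] [CharP F p] : IsPGroup p (D.posUnipotent F) := by
  obtain ⟨n, _, hn⟩ := FiniteField.card F p
  apply IsPGroup.of_card (n := n * (D.nroots / 2))
  rw [card_posUnipotent_all D hD, Nat.card_eq_fintype_card, hn, pow_mul]

/-- the elements of `p`-power order of `B` lie in `U` -/
theorem mem_pos_of_isP (D : ChevalleyDatum)
    (hD : D ∈ [chevG2, chevB2, chevD4, chevF4, chevE6, chevE7, chevE8]) (p : ℕ)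
    [hp : Fact p.Prime] [CharP F p] (b : GL D.Idx F) (hb : b ∈ D.borelSubgroup F)
    (hbp : ∃ k, orderOf b = p ^ k) : b ∈ D.posUnipotent F := by
  have hUB : D.posUnipotent F ≤ D.borelSubgroup F := le_sup_left
  have : ((D.posUnipotent F).subgroupOf (D.borelSubgroup F)).Normal :=
    (Subgroup.normal_subgroupOf_iff_le_normalizer hUB).2 (borel_le_normalizer_all D hD)
  set UB := (D.posUnipotent F).subgroupOf (D.borelSubgroup F) with hUBdef
  -- the index of `U` in `B`
  have hidx : UB.index = Nat.card (D.diagonalSubgroup F) := by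
    have h1 := UB.card_mul_index
    have h2 : Nat.card UB = Nat.card (D.posUnipotent F) :=
      Nat.card_congr (Subgroup.subgroupOfEquivOfLe hUB).toEquiv
    rw [h2, card_borel D hD] at h1
    have hpos : 0 < Nat.card (D.posUnipotent F) := Nat.card_pos
    exact Nat.eq_of_mul_eq_mul_left hpos h1
  obtain ⟨k, hk⟩ := hbp
  set bb : ↥(D.borelSubgroup F) := ⟨b, hb⟩ with hbb
  have hord : orderOf bb = p ^ k := by
    rw [← hk, ← Subgroup.orderOf_coe]
  have h1 : orderOf (QuotientGroup.mk' UB bb) ∣ p ^ k := by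
    rw [← hord]
    exact orderOf_map_dvd _ _
  have h2 : orderOf (QuotientGroup.mk' UB bb) ∣ Nat.card (D.diagonalSubgroup F) := by
    rw [← hidx]
    exact orderOf_dvd_natCard _
  have hcop : Nat.Coprime (p ^ k) (Nat.card (D.diagonalSubgroup F)) :=
    Nat.Coprime.pow_left k (card_diagonal_coprime D hD p)
  have h3 : orderOf (QuotientGroup.mk' UB bb) = 1 :=
    Nat.eq_one_of_dvd_coprimes hcop h1 h2
  rw [orderOf_eq_one_iff, QuotientGroup.mk'_apply, QuotientGroup.eq_one_iff] at h3
  exact Subgroup.mem_subgroupOf.1 h3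

/-- the index of `U` is prime to `p` -/
theorem pos_index_not_dvd (D : ChevalleyDatum)
    (hD : D ∈ [chevG2, chevB2, chevD4, chevF4, chevE6, chevE7, chevE8]) (p : ℕ)
    [hp : Fact p.Prime] [CharP F p] :
    ¬ p ∣ ((D.posUnipotent F).subgroupOf (D.group F)).index := by
  have hadd := allAdd_all (F := F) D hD
  obtain ⟨d, degs, hdegs, hcard⟩ := card_group_all (F := F) D hD
  have hUG : D.posUnipotent F ≤ D.group F := hadd.posUnipotent_le
  have h1 := ((D.posUnipotent F).subgroupOf (D.group F)).card_mul_index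
  have h2 : Nat.card ((D.posUnipotent F).subgroupOf (D.group F)) = Nat.card (D.posUnipotent F) :=
    Nat.card_congr (Subgroup.subgroupOfEquivOfLe hUG).toEquiv
  rw [h2, card_posUnipotent_all D hD] at h1
  rw [← h1] at hcard
  have hpos : 0 < Nat.card F ^ (D.nroots / 2) := pow_pos Nat.card_pos _
  have h3 : d * ((D.posUnipotent F).subgroupOf (D.group F)).index
      = (degs.map fun k => Nat.card F ^ k - 1).prod := by
    apply Nat.eq_of_mul_eq_mul_left hpos
    rw [← hcard]
    ring
  intro hdvd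
  have h4 : p ∣ (degs.map fun k => Nat.card F ^ k - 1).prod := by
    rw [← h3]
    exact Dvd.dvd.mul_left hdvd d
  rw [(Nat.Prime.prime hp.out).dvd_prod_iff] at h4
  obtain ⟨a, ha, hpa⟩ := h4
  rw [List.mem_map] at ha
  obtain ⟨k, hk, rfl⟩ := ha
  rw [Nat.card_eq_fintype_card] at hpa
  exact p_not_dvd_pow_sub_one (F := F) p k (hdegs k hk) hpa

omit [Fintype F] in
/-- the radical of the whole group is trivial -/
theorem unipotentRadical_range (D : ChevalleyDatum) :
    D.unipotentRadical F ((Finset.range D.rank : Finset ℕ) : Set ℕ) = ⊥ := by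
  unfold ChevalleyDatum.unipotentRadical
  rw [Subgroup.closure_eq_bot_iff]
  rintro g ⟨r, t, hr, hnr, -⟩
  exfalso
  apply hnr
  refine ⟨hr.1, ?_⟩
  intro i hi hiJ
  exfalso
  apply hiJ
  rw [Finset.mem_coe, Finset.mem_range]
  exact hi

omit [Fintype F] in
/-- `U ∩ U_K H = U_K` -/
theorem pos_inf_BK (D : ChevalleyDatum)
    (hD : D ∈ [chevG2, chevB2, chevD4, chevF4, chevE6, chevE7, chevE8]) (K : Set ℕ) :
    D.posUnipotent F ⊓ (D.unipotentRadical F K ⊔ D.diagonalSubgroup F)
      ≤ D.unipotentRadical F K := by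
  have hPKN := (levi_decomposition_all (F := F) D hD K).1
  have hBP : D.borelSubgroup F ≤ D.parabolicSubgroup F K := le_sup_left
  have hHB : D.diagonalSubgroup F ≤ D.borelSubgroup F := le_sup_right
  have hHN : D.diagonalSubgroup F
      ≤ Subgroup.normalizer (D.unipotentRadical F K : Set (GL D.Idx F)) :=
    hHB.trans (hBP.trans hPKN)
  intro x hx
  rw [Subgroup.mem_inf] at hx
  obtain ⟨hxU, hxK⟩ := hx
  rw [← SetLike.mem_coe, Subgroup.coe_mul_of_right_le_normalizer_left _ _ hHN,
    Set.mem_mul] at hxK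
  obtain ⟨v, hv, d, hd, rfl⟩ := hxK
  have hdU : d ∈ D.posUnipotent F ⊓ D.diagonalSubgroup F := by
    refine ⟨?_, hd⟩
    have e : d = v⁻¹ * (v * d) := by group
    rw [e]
    exact Subgroup.mul_mem _ (Subgroup.inv_mem _ (unipotentRadical_le_pos D K hv)) hxU
  rw [(borel_semidirect_all (F := F) D hD).2, Subgroup.mem_bot] at hdU
  rw [hdU, mul_one]
  exact hv

omit [Fintype F] in
/-- `|U_K H| = |U_K| |H|` -/
theorem card_BK (D : ChevalleyDatum)
    (hD : D ∈ [chevG2, chevB2, chevD4, chevF4, chevE6, chevE7, chevE8]) (K : Set ℕ) :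
    Nat.card ↥(D.unipotentRadical F K ⊔ D.diagonalSubgroup F)
      = Nat.card (D.unipotentRadical F K) * Nat.card (D.diagonalSubgroup F) := by
  have hPKN := (levi_decomposition_all (F := F) D hD K).1
  have hBP : D.borelSubgroup F ≤ D.parabolicSubgroup F K := le_sup_left
  have hHB : D.diagonalSubgroup F ≤ D.borelSubgroup F := le_sup_right
  have hHN : D.diagonalSubgroup F
      ≤ Subgroup.normalizer (D.unipotentRadical F K : Set (GL D.Idx F)) :=
    hHB.trans (hBP.trans hPKN)
  have hinf : D.diagonalSubgroup F ⊓ D.unipotentRadical F K = ⊥ := by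
    rw [eq_bot_iff, ← (borel_semidirect_all (F := F) D hD).2]
    intro x hx
    rw [Subgroup.mem_inf] at hx ⊢
    exact ⟨unipotentRadical_le_pos D K hx.2, hx.1⟩
  rw [sup_comm, card_sup_of_le_normalizer _ _ hHN hinf, mul_comm]

end Cfsg.Agent.Lib.Helper5.Unip
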