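import Mathlib
import Cfsg.Agent.Lib.Helper5.BNFix

/-!
# The (B,N)-pair of a standard parabolic subgroup (helper5)

For a (B,N)-pair `(B, N)` of `G` with distinguished generators `S` and `J ⊆ S`, the parabolic
subgroup `P_J = B W_J B` has the (B,N)-pair `(B, N_J)` with `N_J = ⟨J⟩ (B ∩ N)`.
-/

set_option autoImplicit false

namespace Cfsg.Agent.Lib.Helper5.Unip

open Cfsg Cfsg.Agent.Lib.Helper5

variable {G : Type*} [Group G] (P : BNPair G)

/-- the subgroup of a join of subgroups -/
theorem sup_subgroupOf_of_le {Γ : Type*} [Group Γ] (A B K : Subgroup Γ) (hA : A ≤ K)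
    (hB : B ≤ K) : (A ⊔ B).subgroupOf K = A.subgroupOf K ⊔ B.subgroupOf K := by
  apply Subgroup.map_injective K.subtype_injective
  rw [Subgroup.map_sup, Subgroup.subgroupOf_map_subtype, Subgroup.subgroupOf_map_subtype,
    Subgroup.subgroupOf_map_subtype, inf_of_le_left hA, inf_of_le_left hB,
    inf_of_le_left (sup_le hA hB)]

/-- the subgroup of a closure -/
theorem closure_subgroupOf_of_subset {Γ : Type*} [Group Γ] (S : Set Γ) (K : Subgroup Γ)
    (hS : S ⊆ (K : Set Γ)) :
    (Subgroup.closure S).subgroupOf K = Subgroup.closure {x : K | (x : Γ) ∈ S} := by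
  apply Subgroup.map_injective K.subtype_injective
  rw [Subgroup.subgroupOf_map_subtype, MonoidHom.map_closure,
    inf_of_le_left ((Subgroup.closure_le K).2 hS)]
  congr 1
  ext x
  constructor
  · intro hx
    exact ⟨⟨x, hS hx⟩, hx, rfl⟩
  · rintro ⟨y, hy, rfl⟩
    exact hy

theorem inf_subgroupOf_eq {Γ : Type*} [Group Γ] (A B K : Subgroup Γ) :
    (A ⊓ B).subgroupOf K = A.subgroupOf K ⊓ B.subgroupOf K := by
  ext x
  simp only [Subgroup.mem_subgroupOf, Subgroup.mem_inf]

/-- the subgroup `N_J = ⟨J⟩ (B ∩ N)` -/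
def NJ (J : Set G) : Subgroup G := Subgroup.closure J ⊔ (P.B ⊓ P.N)

theorem closure_le_N {J : Set G} (hJ : J ⊆ P.S) : Subgroup.closure J ≤ P.N :=
  (Subgroup.closure_le _).2 (fun _ hs => P.subset (hJ hs))

theorem NJ_le_N {J : Set G} (hJ : J ⊆ P.S) : NJ P J ≤ P.N :=
  sup_le (closure_le_N P hJ) inf_le_right

theorem NJ_le_parabolic (J : Set G) : NJ P J ≤ P.parabolic J :=
  sup_le le_sup_right (le_trans inf_le_left le_sup_left)

theorem B_inf_NJ {J : Set G} (hJ : J ⊆ P.S) : P.B ⊓ NJ P J = P.B ⊓ P.N :=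
  le_antisymm (inf_le_inf_left _ (NJ_le_N P hJ)) (le_inf inf_le_left le_sup_right)

theorem closure_le_parabolic (J : Set G) : Subgroup.closure J ≤ P.parabolic J := le_sup_right

theorem subset_parabolic (J : Set G) : J ⊆ (P.parabolic J : Set G) := fun _ hs =>
  closure_le_parabolic P J (Subgroup.subset_closure hs)

/-- the (B,N)-pair `(B, N_J)` of the parabolic subgroup `P_J` -/
def restrict (J : Set G) (hJ : J ⊆ P.S) : BNPair ↥(P.parabolic J) where
  B := P.B.subgroupOf (P.parabolic J)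
  N := (NJ P J).subgroupOf (P.parabolic J)
  S := {x | (x : G) ∈ J}
  sup_eq_top := by
    rw [← sup_subgroupOf_of_le P.B (NJ P J) (P.parabolic J) (BN.B_le_parabolic P J)
      (NJ_le_parabolic P J)]
    have : P.B ⊔ NJ P J = P.parabolic J := by
      apply le_antisymm (sup_le (BN.B_le_parabolic P J) (NJ_le_parabolic P J))
      exact sup_le le_sup_left (le_trans (le_sup_left : Subgroup.closure J ≤ NJ P J) le_sup_right)
    rw [this, Subgroup.subgroupOf_self]
  conj_mem := by
    intro n hn t ht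
    rw [Subgroup.mem_subgroupOf] at hn
    rw [Subgroup.mem_inf, Subgroup.mem_subgroupOf, Subgroup.mem_subgroupOf] at ht
    rw [Subgroup.mem_subgroupOf]
    simp only [Subgroup.coe_mul, Subgroup.coe_inv]
    exact P.conj_mem _ (NJ_le_N P hJ hn) _ ⟨ht.1, NJ_le_N P hJ ht.2⟩
  subset := by
    intro x hx
    rw [SetLike.mem_coe, Subgroup.mem_subgroupOf]
    exact Subgroup.mem_sup_left (Subgroup.subset_closure hx)
  sq_mem := by
    intro s hs
    rw [Subgroup.mem_subgroupOf]
    simp only [Subgroup.coe_mul]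
    exact P.sq_mem _ (hJ hs)
  inj := by
    intro s hs s' hs' h
    rw [Subgroup.mem_subgroupOf] at h
    simp only [Subgroup.coe_mul, Subgroup.coe_inv] at h
    exact Subtype.ext (P.inj _ (hJ hs) _ (hJ hs') h)
  closure_sup := by
    rw [← inf_subgroupOf_eq, B_inf_NJ P hJ,
      ← closure_subgroupOf_of_subset J (P.parabolic J) (subset_parabolic P J),
      ← sup_subgroupOf_of_le (Subgroup.closure J) (P.B ⊓ P.N) (P.parabolic J)
        (closure_le_parabolic P J) (le_trans inf_le_left (BN.B_le_parabolic P J))]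
    rfl
  mul_mem_union := by
    intro s hs n hn b hb
    rw [Subgroup.mem_subgroupOf] at hn hb
    have hBP : P.B ≤ P.parabolic J := le_sup_left
    rcases P.mul_mem_union _ (hJ hs) _ (NJ_le_N P hJ hn) _ hb with h | h
    · left
      rw [DoubleCoset.mem_doubleCoset] at h ⊢
      obtain ⟨b1, hb1, b2, hb2, e⟩ := h
      refine ⟨⟨b1, hBP hb1⟩, ?_, ⟨b2, hBP hb2⟩, ?_, ?_⟩
      · rw [SetLike.mem_coe, Subgroup.mem_subgroupOf]; exact hb1
      · rw [SetLike.mem_coe, Subgroup.mem_subgroupOf]; exact hb2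
      · apply Subtype.ext
        simp only [Subgroup.coe_mul]
        exact e
    · right
      rw [DoubleCoset.mem_doubleCoset] at h ⊢
      obtain ⟨b1, hb1, b2, hb2, e⟩ := h
      refine ⟨⟨b1, hBP hb1⟩, ?_, ⟨b2, hBP hb2⟩, ?_, ?_⟩
      · rw [SetLike.mem_coe, Subgroup.mem_subgroupOf]; exact hb1
      · rw [SetLike.mem_coe, Subgroup.mem_subgroupOf]; exact hb2
      · apply Subtype.ext
        simp only [Subgroup.coe_mul]
        exact e
  conj_ne := by
    intro s hs heq
    apply P.conj_ne _ (hJ hs)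
    have hBP : P.B ≤ P.parabolic J := le_sup_left
    ext x
    constructor
    · rintro ⟨b, hb, rfl⟩
      have h1 : s * ⟨b, hBP hb⟩ * s ∈ (fun b : ↥(P.parabolic J) => s * b * s) ''
          ((P.B.subgroupOf (P.parabolic J) : Subgroup ↥(P.parabolic J)) : Set ↥(P.parabolic J)) :=
        ⟨⟨b, hBP hb⟩, by rw [SetLike.mem_coe, Subgroup.mem_subgroupOf]; exact hb, rfl⟩
      rw [heq, SetLike.mem_coe, Subgroup.mem_subgroupOf] at h1
      rw [SetLike.mem_coe]
      simpa only [Subgroup.coe_mul] using h1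
    · intro hx
      have h1 : (⟨x, hBP hx⟩ : ↥(P.parabolic J)) ∈
          ((P.B.subgroupOf (P.parabolic J) : Subgroup ↥(P.parabolic J)) : Set ↥(P.parabolic J)) := by
        rw [SetLike.mem_coe, Subgroup.mem_subgroupOf]; exact hx
      rw [← heq] at h1
      obtain ⟨b, hb, e⟩ := h1
      rw [SetLike.mem_coe, Subgroup.mem_subgroupOf] at hb
      refine ⟨b, hb, ?_⟩
      have := congrArg Subtype.val e
      simpa only [Subgroup.coe_mul] using this

theorem restrict_B (J : Set G) (hJ : J ⊆ P.S) :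
    (restrict P J hJ).B = P.B.subgroupOf (P.parabolic J) := rfl

theorem restrict_N (J : Set G) (hJ : J ⊆ P.S) :
    (restrict P J hJ).N = (NJ P J).subgroupOf (P.parabolic J) := rfl

theorem restrict_S (J : Set G) (hJ : J ⊆ P.S) :
    (restrict P J hJ).S = {x : ↥(P.parabolic J) | (x : G) ∈ J} := rfl

/-- the parabolic subgroups of `P_J` are the parabolic subgroups `P_{J₀}`, `J₀ ⊆ J` -/
theorem restrict_parabolic (J : Set G) (hJ : J ⊆ P.S) (J₀ : Set G) (h0 : J₀ ⊆ J) :
    (restrict P J hJ).parabolic {x : ↥(P.parabolic J) | (x : G) ∈ J₀}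
      = (P.parabolic J₀).subgroupOf (P.parabolic J) := by
  have hle : Subgroup.closure J₀ ≤ P.parabolic J :=
    le_trans (Subgroup.closure_mono h0) (closure_le_parabolic P J)
  have e : P.parabolic J₀ = P.B ⊔ Subgroup.closure J₀ := rfl
  rw [e, sup_subgroupOf_of_le P.B (Subgroup.closure J₀) (P.parabolic J) (BN.B_le_parabolic P J) hle,
    closure_subgroupOf_of_subset J₀ (P.parabolic J) ((Subgroup.closure_le _).1 hle)]
  rfl

end Cfsg.Agent.Lib.Helper5.Unip
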