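import Mathlib
import Cfsg.Agent.Lib.Helper5.BNFix

/-!
# Counting tools for the number of elements of `p`-power order (helper5)

* the alternating sum of the fixed points on the cosets of the parabolic subgroups, indexed by a
  finite set of natural numbers;
* fixed points of an element of a normal subgroup on a coset space;
* double counting of fixed points;
* inversion of alternating sums over the subsets of a finite set.
-/

set_option autoImplicit false

namespace Cfsg.Agent.Lib.Helper5.Unip

open Cfsg Cfsg.Agent.Lib.Helper5 Cfsg.Agent.Lib.Helper5.BN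

section altsum

variable {G : Type*} [Group G] (P : BNPair G)

open Classical in
/-- the alternating sum of the numbers of fixed points on the cosets of the parabolic subgroups is
the number of fixed points in the big cell (generators indexed by a finite set) -/
theorem alternating_sum_fixedBy_on [Finite G] (I : Finset ℕ) (τ : ℕ → W P)
    (hτs : ∀ σ ∈ Sbar P, ∃ j ∈ I, τ j = σ)
    (Q : Finset ℕ → Subgroup G)
    (hQ : ∀ J ⊆ I, ∃ JG ⊆ P.S, Q J = P.parabolic JG ∧ bar P JG = τ '' (J : Set ℕ))
    (w0 : W P) (hw0 : NoAscent P w0) (b : G) (hb : b ∈ P.B) :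
    ∑ J ∈ I.powerset,
        (-1 : ℤ) ^ J.card * (Nat.card (MulAction.fixedBy (G ⧸ Q J) b) : ℤ)
      = (Nat.card {c : G ⧸ P.B // cellQ P c = w0 ∧ b • c = c} : ℤ) := by
  have : Fintype (G ⧸ P.B) := Fintype.ofFinite _
  -- the set of ascents of a cell
  let Asc : G ⧸ P.B → Finset ℕ := fun c =>
    I.filter fun j => len P (cellQ P c) < len P (cellQ P c * τ j)
  have key : ∀ J ∈ I.powerset,
      (Nat.card (MulAction.fixedBy (G ⧸ Q J) b) : ℤ)
        = ∑ c : G ⧸ P.B, if b • c = c ∧ J ⊆ Asc c then (1 : ℤ) else 0 := by
    intro J hJ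
    rw [Finset.mem_powerset] at hJ
    obtain ⟨JG, hJG, hQJ, hbar⟩ := hQ J hJ
    rw [hQJ, card_fixedBy_parabolic P hJG hb, Nat.card_eq_fintype_card, Fintype.card_subtype,
      Finset.card_eq_sum_ones, Finset.sum_filter]
    push_cast
    apply Finset.sum_congr rfl
    intro c _
    have hiff : (cellQ P c ∈ DA P (bar P JG) ∧ b • c = c) ↔ (b • c = c ∧ J ⊆ Asc c) := by
      rw [and_comm]
      apply and_congr_right
      intro _
      rw [hbar]
      constructor
      · intro h j hj
        rw [Finset.mem_filter]
        exact ⟨hJ hj, h (τ j) ⟨j, hj, rfl⟩⟩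
      · rintro h σ ⟨j, hj, rfl⟩
        exact (Finset.mem_filter.1 (h hj)).2
    by_cases hc : cellQ P c ∈ DA P (bar P JG) ∧ b • c = c
    · rw [if_pos hc, if_pos (hiff.1 hc)]
    · rw [if_neg hc, if_neg (fun h => hc (hiff.2 h))]
  rw [Finset.sum_congr rfl (fun J hJ => by rw [key J hJ])]
  simp_rw [Finset.mul_sum]
  rw [Finset.sum_comm]
  -- the inner sum
  have inner : ∀ c : G ⧸ P.B,
      ∑ J ∈ I.powerset,
          (-1 : ℤ) ^ J.card * (if b • c = c ∧ J ⊆ Asc c then (1 : ℤ) else 0)
        = if cellQ P c = w0 ∧ b • c = c then 1 else 0 := by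
    intro c
    by_cases hfix : b • c = c
    · have e1 : ∑ J ∈ I.powerset,
          (-1 : ℤ) ^ J.card * (if b • c = c ∧ J ⊆ Asc c then (1 : ℤ) else 0)
          = ∑ J ∈ (Asc c).powerset, (-1 : ℤ) ^ J.card := by
        have hsub : (Asc c).powerset ⊆ I.powerset :=
          Finset.powerset_mono.2 (Finset.filter_subset _ _)
        rw [← Finset.sum_subset hsub]
        · apply Finset.sum_congr rfl
          intro J hJ
          rw [Finset.mem_powerset] at hJ
          rw [if_pos ⟨hfix, hJ⟩, mul_one]
        · intro J _ hJ
          rw [Finset.mem_powerset] at hJ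
          rw [if_neg (fun h => hJ h.2), mul_zero]
      rw [e1, Finset.sum_powerset_neg_one_pow_card]
      have hiff : Asc c = ∅ ↔ cellQ P c = w0 := by
        constructor
        · intro h
          apply noAscent_unique P _ hw0
          intro σ hσ
          obtain ⟨j, hj, rfl⟩ := hτs σ hσ
          have : j ∉ Asc c := by rw [h]; simp
          rw [Finset.mem_filter] at this
          push Not at this
          exact lt_of_le_of_ne (this hj) (BN.len_mul_right_ne P hσ)
        · intro h
          rw [Finset.eq_empty_iff_forall_notMem]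
          intro j hj
          rw [Finset.mem_filter, h] at hj
          have := noAscent_max P hw0 (w0 * τ j)
          omega
      by_cases h0 : Asc c = ∅
      · rw [if_pos h0, if_pos ⟨hiff.1 h0, hfix⟩]
      · rw [if_neg h0, if_neg (fun h => h0 (hiff.2 h.1))]
    · rw [if_neg (fun h => hfix h.2)]
      apply Finset.sum_eq_zero
      intro J _
      rw [if_neg (fun h => hfix h.1), mul_zero]
  rw [Finset.sum_congr rfl (fun c _ => inner c), Nat.card_eq_fintype_card, Fintype.card_subtype,
    Finset.card_eq_sum_ones, Finset.sum_filter]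
  push_cast
  rfl

end altsum

end Cfsg.Agent.Lib.Helper5.Unip
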