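import Mathlib

/-!
# Fixed points on coset spaces, double counting, inversion over subsets (helper5)
-/

set_option autoImplicit false

namespace Cfsg.Agent.Lib.Helper5.Unip

section fixed

variable {Γ : Type*} [Group Γ]

/-- a coset `β K` is fixed by `b` iff `β⁻¹ b β ∈ K` -/
theorem smul_mk_eq_iff (K : Subgroup Γ) (b β : Γ) :
    b • (QuotientGroup.mk β : Γ ⧸ K) = QuotientGroup.mk β ↔ β⁻¹ * b * β ∈ K := by
  rw [MulAction.Quotient.smul_mk, eq_comm, QuotientGroup.eq, smul_eq_mul, mul_assoc]

/-- an element of a normal subgroup contained in `K` fixes every coset of `K` -/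
theorem card_fixedBy_of_mem_normal (K M : Subgroup Γ) [hM : M.Normal] (hMK : M ≤ K) {b : Γ}
    (hb : b ∈ M) : Nat.card (MulAction.fixedBy (Γ ⧸ K) b) = K.index := by
  have h : MulAction.fixedBy (Γ ⧸ K) b = Set.univ := by
    ext c
    simp only [Set.mem_univ, iff_true, MulAction.mem_fixedBy]
    induction c using QuotientGroup.induction_on with
    | H β =>
      rw [smul_mk_eq_iff]
      apply hMK
      have := hM.conj_mem b hb β⁻¹
      rwa [inv_inv] at this
  rw [h, Nat.card_congr (Equiv.Set.univ _)]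
  rfl

/-- an element of a normal subgroup `U` outside a normal subgroup `M ⊇ U ∩ K` fixes no coset of
`K` -/
theorem card_fixedBy_eq_zero (K U M : Subgroup Γ) [hU : U.Normal] [hM : M.Normal]
    (h : U ⊓ K ≤ M) {b : Γ} (hbU : b ∈ U) (hbM : b ∉ M) :
    Nat.card (MulAction.fixedBy (Γ ⧸ K) b) = 0 := by
  have : IsEmpty (MulAction.fixedBy (Γ ⧸ K) b) := by
    constructor
    rintro ⟨c, hc⟩
    rw [MulAction.mem_fixedBy] at hc
    induction c using QuotientGroup.induction_on with
    | H β =>
      rw [smul_mk_eq_iff] at hc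
      have h1 : β⁻¹ * b * β ∈ U := by
        have := hU.conj_mem b hbU β⁻¹
        rwa [inv_inv] at this
      have h2 := h ⟨h1, hc⟩
      have h3 := hM.conj_mem _ h2 β
      apply hbM
      have e : β * (β⁻¹ * b * β) * β⁻¹ = b := by group
      rwa [e] at h3
  exact Nat.card_of_isEmpty

/-- the number of fixed points is invariant under conjugation -/
theorem card_fixedBy_conj (X : Type*) [MulAction Γ X] (g y : Γ) :
    Nat.card (MulAction.fixedBy X (g * y * g⁻¹)) = Nat.card (MulAction.fixedBy X y) := by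
  apply Nat.card_congr
  refine ⟨fun x => ⟨g⁻¹ • x.1, ?_⟩, fun x => ⟨g • x.1, ?_⟩, ?_, ?_⟩
  · have := x.2
    rw [MulAction.mem_fixedBy] at this ⊢
    conv_rhs => rw [← this]
    simp only [smul_smul]
    congr 1
    group
  · have := x.2
    rw [MulAction.mem_fixedBy] at this ⊢
    conv_rhs => rw [← this]
    simp only [smul_smul]
    congr 1
    group
  · intro x
    apply Subtype.ext
    simp
  · intro x
    apply Subtype.ext
    simp

open Classical in
/-- double counting of the fixed points of the elements of a conjugation invariant set -/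
theorem sum_card_fixedBy [Fintype Γ] (Q : Subgroup Γ) (Pp : Γ → Prop)
    (hconj : ∀ g x, Pp x → Pp (g * x * g⁻¹)) :
    ∑ y ∈ Finset.univ.filter Pp, Nat.card (MulAction.fixedBy (Γ ⧸ Q) y)
      = Q.index * Nat.card {x : Q // Pp (x : Γ)} := by
  have hfib : ∀ c : Γ ⧸ Q, Nat.card {y : Γ // Pp y ∧ y • c = c} = Nat.card {x : Q // Pp (x : Γ)} := by
    intro c
    induction c using QuotientGroup.induction_on with
    | H g =>
      apply Nat.card_congr
      refine ⟨fun y => ⟨⟨g⁻¹ * y.1 * g, (smul_mk_eq_iff Q _ _).1 y.2.2⟩, ?_⟩,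
        fun x => ⟨g * x.1 * g⁻¹, ?_, ?_⟩, ?_, ?_⟩
      · have := hconj g⁻¹ y.1 y.2.1
        rwa [inv_inv] at this
      · exact hconj g _ x.2
      · rw [smul_mk_eq_iff]
        have e : g⁻¹ * (g * (x.1 : Γ) * g⁻¹) * g = x.1 := by group
        rw [e]
        exact x.1.2
      · intro y
        apply Subtype.ext
        show g * (g⁻¹ * y.1 * g) * g⁻¹ = y.1
        group
      · intro x
        apply Subtype.ext
        apply Subtype.ext
        show g⁻¹ * (g * (x.1 : Γ) * g⁻¹) * g = x.1
        group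
  have h1 : ∀ y : Γ, Nat.card (MulAction.fixedBy (Γ ⧸ Q) y)
      = ∑ c : Γ ⧸ Q, if y • c = c then 1 else 0 := by
    intro y
    rw [Nat.card_eq_fintype_card, Fintype.card_subtype, Finset.card_eq_sum_ones, Finset.sum_filter]
    rfl
  have h2 : ∀ c : Γ ⧸ Q, Nat.card {y : Γ // Pp y ∧ y • c = c}
      = ∑ y ∈ Finset.univ.filter Pp, if y • c = c then 1 else 0 := by
    intro c
    rw [Nat.card_eq_fintype_card, Fintype.card_subtype, Finset.card_eq_sum_ones, Finset.sum_filter,
      Finset.sum_filter]
    apply Finset.sum_congr rfl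
    intro y _
    by_cases hy : Pp y
    · simp [hy]
    · simp [hy]
  rw [Finset.sum_congr rfl (fun y _ => h1 y), Finset.sum_comm]
  rw [Finset.sum_congr rfl (fun c _ => (h2 c).symm), Finset.sum_congr rfl (fun c _ => hfib c)]
  rw [Finset.sum_const, Finset.card_univ, smul_eq_mul, Subgroup.index,
    Nat.card_eq_fintype_card (α := Γ ⧸ Q)]

end fixed

section inversion

variable {R : Type*} [CommRing R]

/-- the alternating sum over the sets between `I` and `K` -/
theorem sum_Icc_neg_one_pow_card (I K : Finset ℕ) (hIK : I ⊆ K) :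
    ∑ J ∈ K.powerset.filter (fun J => I ⊆ J), (-1 : R) ^ J.card
      = if I = K then (-1 : R) ^ K.card else 0 := by
  rw [← Finset.Icc_eq_filter_powerset, Finset.Icc_eq_image_powerset hIK, Finset.sum_image]
  · have h1 : ∀ J ∈ (K \ I).powerset, (-1 : R) ^ (I ∪ J).card = (-1) ^ I.card * (-1) ^ J.card := by
      intro J hJ
      rw [Finset.mem_powerset] at hJ
      have hdisj : Disjoint I J := by
        rw [Finset.disjoint_left]
        intro x hxI hxJ
        exact (Finset.mem_sdiff.1 (hJ hxJ)).2 hxI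
      rw [Finset.card_union_of_disjoint hdisj, pow_add]
    have hz : ∑ m ∈ (K \ I).powerset, (-1 : R) ^ m.card = if K \ I = ∅ then 1 else 0 := by
      have := congrArg (fun z : ℤ => (z : R))
        (Finset.sum_powerset_neg_one_pow_card (x := K \ I))
      simp only [Int.cast_sum, Int.cast_pow, Int.cast_neg, Int.cast_one] at this
      rw [this]
      split_ifs <;> simp
    rw [Finset.sum_congr rfl h1, ← Finset.mul_sum, hz]
    by_cases h : I = K
    · subst h
      simp
    · rw [if_neg h, if_neg, mul_zero]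
      intro h2
      apply h
      apply Finset.Subset.antisymm hIK
      rwa [Finset.sdiff_eq_empty_iff_subset] at h2
  · intro J hJ J' hJ' h
    rw [Finset.mem_coe, Finset.mem_powerset] at hJ hJ'
    have e1 : (I ∪ J) \ I = J := by
      rw [Finset.union_sdiff_left]
      rw [Finset.sdiff_eq_self_iff_disjoint, Finset.disjoint_left]
      intro x hxJ hxI
      exact (Finset.mem_sdiff.1 (hJ hxJ)).2 hxI
    have e2 : (I ∪ J') \ I = J' := by
      rw [Finset.union_sdiff_left]
      rw [Finset.sdiff_eq_self_iff_disjoint, Finset.disjoint_left]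
      intro x hxJ hxI
      exact (Finset.mem_sdiff.1 (hJ' hxJ)).2 hxI
    have h' : I ∪ J = I ∪ J' := h
    rw [← e1, ← e2, h']

/-- inversion of alternating sums over the subsets of a finite set -/
theorem powerset_inversion (S₀ : Finset ℕ) (f g : Finset ℕ → R)
    (h : ∀ K ⊆ S₀, ∑ J ∈ K.powerset, (-1 : R) ^ J.card * f J = g K) :
    ∀ K ⊆ S₀, f K = ∑ J ∈ K.powerset, (-1 : R) ^ J.card * g J := by
  intro K hK
  have h1 : ∀ J ∈ K.powerset, (-1 : R) ^ J.card * g J
      = ∑ I ∈ J.powerset, (-1 : R) ^ J.card * ((-1 : R) ^ I.card * f I) := by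
    intro J hJ
    rw [Finset.mem_powerset] at hJ
    rw [← h J (hJ.trans hK), Finset.mul_sum]
  rw [Finset.sum_congr rfl h1]
  have h2 : ∑ J ∈ K.powerset, ∑ I ∈ J.powerset, (-1 : R) ^ J.card * ((-1 : R) ^ I.card * f I)
      = ∑ I ∈ K.powerset, ∑ J ∈ K.powerset.filter (fun J => I ⊆ J),
          (-1 : R) ^ J.card * ((-1 : R) ^ I.card * f I) := by
    apply Finset.sum_comm'
    intro J I
    simp only [Finset.mem_powerset, Finset.mem_filter]
    constructor
    · rintro ⟨h3, h4⟩
      exact ⟨⟨h3, h4⟩, h4.trans h3⟩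
    · rintro ⟨⟨h3, h4⟩, _⟩
      exact ⟨h3, h4⟩
  rw [h2]
  have h3 : ∀ I ∈ K.powerset, ∑ J ∈ K.powerset.filter (fun J => I ⊆ J),
      (-1 : R) ^ J.card * ((-1 : R) ^ I.card * f I)
      = if I = K then f K else 0 := by
    intro I hI
    rw [Finset.mem_powerset] at hI
    rw [← Finset.sum_mul, sum_Icc_neg_one_pow_card I K hI]
    by_cases hIK : I = K
    · subst hIK
      rw [if_pos rfl, if_pos rfl, ← mul_assoc, ← pow_add, ← two_mul, pow_mul]
      simp
    · rw [if_neg hIK, if_neg hIK, zero_mul]
  rw [Finset.sum_congr rfl h3, Finset.sum_ite_eq' K.powerset K]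
  simp

end inversion

end Cfsg.Agent.Lib.Helper5.Unip
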