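import Mathlib
import Cfsg.Agent.Lib.Helper5.Unip.Restrict
import Cfsg.Agent.Lib.Helper5.Unip.AltSum
import Cfsg.Agent.Lib.Helper5.Unip.Tools

/-!
# The number of elements of `p`-power order in a group with a split (B,N)-pair (helper5)
-/

set_option autoImplicit false

namespace Cfsg.Agent.Lib.Helper5.Unip

open Cfsg Cfsg.Agent.Lib.Helper5

variable {G : Type*} [Group G] (P : BNPair G)

/-- a left descent from a product of double cosets -/
theorem len_lt_of_mul_mem_C {σ w : BN.W P}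
    (hσ : σ ∈ BN.Sbar P) {y x : G} (hy : y ∈ BN.C P σ) (hx : x ∈ BN.C P w)
    (hyx : y * x ∈ BN.C P w) : BN.len P (σ * w) < BN.len P w := by
  by_contra hcon
  push Not at hcon
  have h1 := BN.L2 P hσ hcon hy hx
  have h2 := BN.bruhat P (BN.C_inj_of_inter P h1 hyx)
  have : σ = 1 := by
    have h3 : σ * w = 1 * w := by rw [one_mul]; exact h2
    exact mul_right_cancel h3
  exact BN.Sbar_ne_one P hσ this

section altsum

variable [Finite G] (I : Finset ℕ) (s : ℕ → G) (hsS : ∀ j ∈ I, s j ∈ P.S)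

omit [Finite G] in
include hsS in
theorem image_subset_S (K : Finset ℕ) (hK : K ⊆ I) : s '' (K : Set ℕ) ⊆ P.S := by
  rintro x ⟨j, hj, rfl⟩
  exact hsS j (hK hj)

include hsS in
/-- the relative alternating sum on `B` is the permutation character on the cosets of
`B ∩ n_K⁻¹ B n_K` -/
theorem altsum_restrict (K : Finset ℕ) (hK : K ⊆ I)
    (P' : BNPair ↥(P.parabolic (s '' (K : Set ℕ))))
    (hB' : P'.B = P.B.subgroupOf (P.parabolic (s '' (K : Set ℕ))))
    (hN' : P'.N = (NJ P (s '' (K : Set ℕ))).subgroupOf (P.parabolic (s '' (K : Set ℕ))))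
    (hS' : P'.S = {x : ↥(P.parabolic (s '' (K : Set ℕ))) | (x : G) ∈ s '' (K : Set ℕ)})
    (hpar' : ∀ J₀ ⊆ s '' (K : Set ℕ),
      P'.parabolic {x : ↥(P.parabolic (s '' (K : Set ℕ))) | (x : G) ∈ J₀}
        = (P.parabolic J₀).subgroupOf (P.parabolic (s '' (K : Set ℕ))))
    (BK : Subgroup G) (n1 : G) (hn1 : n1 ∈ Subgroup.closure (s '' (K : Set ℕ)))
    (hdesc : ∀ j ∈ K, ∃ b ∈ P.B, ∃ b' ∈ P.B, n1⁻¹ * (b * s j * b') * n1 ∈ P.B)
    (hcf : ∀ β ∈ P.B, n1 * β * n1⁻¹ ∈ P.B ↔ β ∈ BK)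
    (b : P'.B) :
    ∑ J ∈ K.powerset, (-1 : ℤ) ^ J.card *
      (Nat.card (MulAction.fixedBy (↥(P.parabolic (s '' (K : Set ℕ))) ⧸
        (P.parabolic (s '' (J : Set ℕ))).subgroupOf (P.parabolic (s '' (K : Set ℕ))))
        (b : ↥(P.parabolic (s '' (K : Set ℕ))))) : ℤ)
    = (Nat.card (MulAction.fixedBy
        (↥P'.B ⧸ (BK.subgroupOf (P.parabolic (s '' (K : Set ℕ)))).subgroupOf P'.B) b) : ℤ) := by
  classical
  have hJK := image_subset_S P I s hsS K hK
  -- the generators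
  have hsΓ : ∀ j ∈ K, s j ∈ P.parabolic (s '' (K : Set ℕ)) := fun j hj =>
    subset_parabolic P _ ⟨j, hj, rfl⟩
  have hsS' : ∀ j (hj : j ∈ K), (⟨s j, hsΓ j hj⟩ : ↥(P.parabolic (s '' (K : Set ℕ)))) ∈ P'.S := by
    intro j hj
    rw [hS']
    exact ⟨j, hj, rfl⟩
  have hsN : ∀ j (hj : j ∈ K), (⟨s j, hsΓ j hj⟩ : ↥(P.parabolic (s '' (K : Set ℕ)))) ∈ P'.N :=
    fun j hj => P'.subset (hsS' j hj)
  let τ' : ℕ → BN.W P' := fun j =>
    if hj : j ∈ K then BN.proj P' ⟨⟨s j, hsΓ j hj⟩, hsN j hj⟩ else 1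
  have hτ'eq : ∀ j (hj : j ∈ K), τ' j = BN.proj P' ⟨⟨s j, hsΓ j hj⟩, hsN j hj⟩ := by
    intro j hj
    simp only [τ', dif_pos hj]
  have hτ'S : ∀ j ∈ K, τ' j ∈ BN.Sbar P' := by
    intro j hj
    exact ⟨⟨⟨s j, hsΓ j hj⟩, hsN j hj⟩, hsS' j hj, (hτ'eq j hj).symm⟩
  have hτs' : ∀ σ ∈ BN.Sbar P', ∃ j ∈ K, τ' j = σ := by
    rintro σ ⟨n, hn, rfl⟩
    rw [hS'] at hn
    obtain ⟨j, hj, e⟩ := hn
    have hjK : j ∈ K := Finset.mem_coe.1 hj
    refine ⟨j, hjK, ?_⟩
    rw [hτ'eq j hjK]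
    congr 1
    apply Subtype.ext
    apply Subtype.ext
    exact e
  have hQ' : ∀ J ⊆ K, ∃ JG ⊆ P'.S,
      (P.parabolic (s '' (J : Set ℕ))).subgroupOf (P.parabolic (s '' (K : Set ℕ)))
        = P'.parabolic JG ∧ BN.bar P' JG = τ' '' (J : Set ℕ) := by
    intro J hJ
    have hJ0 : s '' (J : Set ℕ) ⊆ s '' (K : Set ℕ) := Set.image_mono (by exact_mod_cast hJ)
    refine ⟨{x : ↥(P.parabolic (s '' (K : Set ℕ))) | (x : G) ∈ s '' (J : Set ℕ)}, ?_, ?_, ?_⟩
    · intro x hx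
      rw [hS']
      exact hJ0 hx
    · exact (hpar' _ hJ0).symm
    · ext σ
      constructor
      · rintro ⟨n, ⟨j, hj, e⟩, rfl⟩
        refine ⟨j, hj, ?_⟩
        have hjK : j ∈ K := hJ (Finset.mem_coe.1 hj)
        rw [hτ'eq j hjK]
        congr 1
        apply Subtype.ext
        apply Subtype.ext
        exact e
      · rintro ⟨j, hj, rfl⟩
        have hjK : j ∈ K := hJ (Finset.mem_coe.1 hj)
        refine ⟨⟨⟨s j, hsΓ j hjK⟩, hsN j hjK⟩, ⟨j, hj, rfl⟩, ?_⟩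
        rw [hτ'eq j hjK]
  -- the longest element
  have hn1N : n1 ∈ NJ P (s '' (K : Set ℕ)) := Subgroup.mem_sup_left hn1
  have hn1Γ : n1 ∈ P.parabolic (s '' (K : Set ℕ)) := NJ_le_parabolic P _ hn1N
  let n1N : P'.N := ⟨⟨n1, hn1Γ⟩, by
    rw [hN', Subgroup.mem_subgroupOf]
    exact hn1N⟩
  have hBΓ : P.B ≤ P.parabolic (s '' (K : Set ℕ)) := BN.B_le_parabolic P _
  have hw0 : BN.NoAscent P' (BN.proj P' n1N⁻¹) := by
    intro σ hσ
    obtain ⟨j, hj, rfl⟩ := hτs' σ hσ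
    have hleft : BN.len P' (τ' j * BN.proj P' n1N) < BN.len P' (BN.proj P' n1N) := by
      obtain ⟨b1, hb1, b2, hb2, hconj⟩ := hdesc j hj
      have hyΓ : b1 * s j * b2 ∈ P.parabolic (s '' (K : Set ℕ)) :=
        mul_mem (mul_mem (hBΓ hb1) (hsΓ j hj)) (hBΓ hb2)
      apply len_lt_of_mul_mem_C P' (hτ'S j hj) (y := ⟨b1 * s j * b2, hyΓ⟩)
        (x := ((n1N : P'.N) : ↥(P.parabolic (s '' (K : Set ℕ)))))
      · rw [hτ'eq j hj, BN.C_proj, BN.mem_D]
        refine ⟨⟨b1, hBΓ hb1⟩, ?_, ⟨b2, hBΓ hb2⟩, ?_, ?_⟩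
        · rw [hB', Subgroup.mem_subgroupOf]; exact hb1
        · rw [hB', Subgroup.mem_subgroupOf]; exact hb2
        · rfl
      · rw [BN.C_proj]; exact BN.self_mem_D P' _
      · rw [BN.C_proj, BN.mem_D]
        refine ⟨1, one_mem _, ⟨n1⁻¹ * (b1 * s j * b2) * n1, hBΓ hconj⟩, ?_, ?_⟩
        · rw [hB', Subgroup.mem_subgroupOf]; exact hconj
        · apply Subtype.ext
          show b1 * s j * b2 * n1 = 1 * n1 * (n1⁻¹ * (b1 * s j * b2) * n1)
          group
    rw [map_inv, ← BN.Sbar_inv P' (hτ'S j hj), ← mul_inv_rev, BN.len_inv, BN.len_inv]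
    exact hleft
  -- the stabilizer of the big cell
  have hK' : ∀ β ∈ P'.B, β ∈ BK.subgroupOf (P.parabolic (s '' (K : Set ℕ))) ↔
      (((n1N⁻¹ : P'.N) : ↥(P.parabolic (s '' (K : Set ℕ)))))⁻¹ * β *
        ((n1N⁻¹ : P'.N) : ↥(P.parabolic (s '' (K : Set ℕ)))) ∈ P'.B := by
    intro β hβ
    rw [hB', Subgroup.mem_subgroupOf] at hβ
    rw [hB', Subgroup.mem_subgroupOf, Subgroup.mem_subgroupOf]
    have e : ((((((n1N⁻¹ : P'.N) : ↥(P.parabolic (s '' (K : Set ℕ)))))⁻¹ * β *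
        ((n1N⁻¹ : P'.N) : ↥(P.parabolic (s '' (K : Set ℕ)))) :
        ↥(P.parabolic (s '' (K : Set ℕ)))) : G)) = n1 * (β : G) * n1⁻¹ := by
      simp only [Subgroup.coe_mul, Subgroup.coe_inv, inv_inv]
      rfl
    rw [e]
    exact (hcf _ hβ).symm
  have hsum := alternating_sum_fixedBy_on P' K τ' hτs'
    (fun J => (P.parabolic (s '' (J : Set ℕ))).subgroupOf (P.parabolic (s '' (K : Set ℕ)))) hQ'
    (BN.proj P' n1N⁻¹) hw0 (b : ↥(P.parabolic (s '' (K : Set ℕ)))) b.2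
  rw [hsum, BN.card_fixedBy_bigCell P' n1N⁻¹ _ hK' b]

end altsum


/-! ### conjugation into a Sylow subgroup -/

open scoped Pointwise in
theorem exists_conj_mem_of_isPGroup {Γ : Type*} [Group Γ] [Finite Γ] (p : ℕ) [Fact p.Prime]
    (U' : Subgroup Γ) (hU : IsPGroup p U') (hidx : ¬ p ∣ U'.index) (y : Γ)
    (hy : ∃ k, orderOf y = p ^ k) : ∃ g : Γ, g * y * g⁻¹ ∈ U' := by
  obtain ⟨k, hk⟩ := hy
  have hz : IsPGroup p (Subgroup.zpowers y) := by
    apply IsPGroup.of_card (n := k)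
    rw [Nat.card_zpowers, hk]
  obtain ⟨Q, hQ⟩ := hz.exists_le_sylow
  obtain ⟨g, hg⟩ := MulAction.exists_smul_eq Γ Q (hU.toSylow hidx)
  refine ⟨g, ?_⟩
  have h1 : y ∈ (Q : Subgroup Γ) := hQ (Subgroup.mem_zpowers y)
  have h2 : MulAut.conj g • y ∈ MulAut.conj g • (Q : Subgroup Γ) :=
    Subgroup.smul_mem_pointwise_smul _ _ _ h1
  rw [← Sylow.coe_subgroup_smul, hg, IsPGroup.toSylow_coe] at h2
  exact h2

/-! ### the data of a split (B,N)-pair -/

/-- the data: generators `s j`, `j ∈ I`, of the Weyl group, the subgroup `U`, the radicals `U_K`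
and the subgroups `B_K = B ∩ n_K⁻¹ B n_K` -/
structure SplitData (p : ℕ) (I : Finset ℕ) (s : ℕ → G) (U : Subgroup G)
    (UK BK : Finset ℕ → Subgroup G) : Prop where
  s_mem : ∀ j ∈ I, s j ∈ P.S
  s_surj : ∀ x ∈ P.S, ∃ j ∈ I, x = s j
  U_le : U ≤ P.B
  U_p : IsPGroup p U
  U_idx : ¬ p ∣ U.index
  U_normal : ∀ b ∈ P.B, ∀ u ∈ U, b * u * b⁻¹ ∈ U
  p_mem : ∀ b ∈ P.B, (∃ k, orderOf b = p ^ k) → b ∈ U
  UK_le : ∀ K ⊆ I, UK K ≤ U
  UK_le_BK : ∀ K ⊆ I, UK K ≤ BK K
  BK_le : ∀ K ⊆ I, BK K ≤ P.B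
  UK_normal : ∀ K ⊆ I, ∀ g ∈ P.parabolic (s '' (K : Set ℕ)), ∀ u ∈ UK K, g * u * g⁻¹ ∈ UK K
  U_inf_BK : ∀ K ⊆ I, U ⊓ BK K ≤ UK K
  card_eq : ∀ K ⊆ I, Nat.card (BK K) * Nat.card U = Nat.card P.B * Nat.card (UK K)
  longest : ∀ K ⊆ I, ∃ n1 ∈ Subgroup.closure (s '' (K : Set ℕ)),
      (∀ j ∈ K, ∃ b ∈ P.B, ∃ b' ∈ P.B, n1⁻¹ * (b * s j * b') * n1 ∈ P.B) ∧
      (∀ β ∈ P.B, n1 * β * n1⁻¹ ∈ P.B ↔ β ∈ BK K)
  UK_top : UK I = ⊥

section stK

variable [Finite G] {p : ℕ} [hp : Fact p.Prime] {I : Finset ℕ} {s : ℕ → G} {U : Subgroup G}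
  {UK BK : Finset ℕ → Subgroup G}

/-- the elements of `p`-power order of the parabolic subgroup `P_J` -/
noncomputable def nP (p : ℕ) (s : ℕ → G) (J : Finset ℕ) : ℕ :=
  Nat.card {g : G // g ∈ P.parabolic (s '' (J : Set ℕ)) ∧ ∃ k, orderOf g = p ^ k}

open Classical in
/-- the value of the relative alternating sum at an element of `p`-power order of `P_K` -/
theorem altsum_value (h : SplitData P p I s U UK BK) (K : Finset ℕ) (hK : K ⊆ I) :
    ∃ c : ℕ, c * Nat.card (BK K) = Nat.card P.B ∧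
      ∀ y : ↥(P.parabolic (s '' (K : Set ℕ))), (∃ k, orderOf y = p ^ k) →
        ∑ J ∈ K.powerset, (-1 : ℤ) ^ J.card *
          (Nat.card (MulAction.fixedBy (↥(P.parabolic (s '' (K : Set ℕ))) ⧸
            (P.parabolic (s '' (J : Set ℕ))).subgroupOf (P.parabolic (s '' (K : Set ℕ)))) y) : ℤ)
        = if (y : G) ∈ UK K then (c : ℤ) else 0 := by
  have hJK := image_subset_S P I s h.s_mem K hK
  obtain ⟨n1, hn1, hdesc, hcf⟩ := h.longest K hK
  set PK := P.parabolic (s '' (K : Set ℕ)) with hPK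
  let P' := restrict P (s '' (K : Set ℕ)) hJK
  have hB' : P'.B = P.B.subgroupOf PK := rfl
  have hBΓ : P.B ≤ PK := BN.B_le_parabolic P _
  -- the subgroups of `B`
  let K₀ : Subgroup ↥P'.B := ((BK K).subgroupOf PK).subgroupOf P'.B
  let M₀ : Subgroup ↥P'.B := ((UK K).subgroupOf PK).subgroupOf P'.B
  let U₀ : Subgroup ↥P'.B := (U.subgroupOf PK).subgroupOf P'.B
  have hmemK : ∀ x : ↥P'.B, x ∈ K₀ ↔ (((x : ↥PK)) : G) ∈ BK K := fun x => by
    rw [Subgroup.mem_subgroupOf, Subgroup.mem_subgroupOf]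
  have hmemM : ∀ x : ↥P'.B, x ∈ M₀ ↔ (((x : ↥PK)) : G) ∈ UK K := fun x => by
    rw [Subgroup.mem_subgroupOf, Subgroup.mem_subgroupOf]
  have hmemU : ∀ x : ↥P'.B, x ∈ U₀ ↔ (((x : ↥PK)) : G) ∈ U := fun x => by
    rw [Subgroup.mem_subgroupOf, Subgroup.mem_subgroupOf]
  have hB₀ : ∀ x : ↥P'.B, (((x : ↥PK)) : G) ∈ P.B := fun x => Subgroup.mem_subgroupOf.1 x.2
  have hMn : M₀.Normal := by
    constructor
    intro x hx β
    rw [hmemM] at hx ⊢
    simp only [Subgroup.coe_mul, Subgroup.coe_inv]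
    exact h.UK_normal K hK _ (hBΓ (hB₀ β)) _ hx
  have hUn : U₀.Normal := by
    constructor
    intro x hx β
    rw [hmemU] at hx ⊢
    simp only [Subgroup.coe_mul, Subgroup.coe_inv]
    exact h.U_normal _ (hB₀ β) _ hx
  have hMK : M₀ ≤ K₀ := by
    intro x hx
    rw [hmemM] at hx
    rw [hmemK]
    exact h.UK_le_BK K hK hx
  have hUK : U₀ ⊓ K₀ ≤ M₀ := by
    intro x hx
    rw [Subgroup.mem_inf] at hx
    obtain ⟨hx1, hx2⟩ := hx
    rw [hmemU] at hx1
    rw [hmemK] at hx2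
    rw [hmemM]
    exact h.U_inf_BK K hK ⟨hx1, hx2⟩
  -- the index
  have hcardB : Nat.card ↥P'.B = Nat.card P.B :=
    Nat.card_congr (Subgroup.subgroupOfEquivOfLe hBΓ).toEquiv
  have hcardK : Nat.card K₀ = Nat.card (BK K) := by
    have h1 : (BK K).subgroupOf PK ≤ P'.B := by
      intro x hx
      rw [Subgroup.mem_subgroupOf] at hx
      rw [hB', Subgroup.mem_subgroupOf]
      exact h.BK_le K hK hx
    rw [Nat.card_congr (Subgroup.subgroupOfEquivOfLe h1).toEquiv,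
      Nat.card_congr (Subgroup.subgroupOfEquivOfLe ((h.BK_le K hK).trans hBΓ)).toEquiv]
  refine ⟨K₀.index, ?_, ?_⟩
  · rw [← hcardK, ← hcardB, mul_comm]
    exact K₀.card_mul_index
  · intro y hy
    -- conjugate into `U`
    have hUp' : IsPGroup p (U.subgroupOf PK) := h.U_p.comap_subtype
    have hidx' : ¬ p ∣ (U.subgroupOf PK).index := by
      intro hdvd
      apply h.U_idx
      have h1 : U.relIndex PK ∣ U.index := Subgroup.relIndex_dvd_index_of_le (h.U_le.trans hBΓ)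
      exact dvd_trans hdvd h1
    obtain ⟨g, hg⟩ := exists_conj_mem_of_isPGroup p _ hUp' hidx' y hy
    rw [Subgroup.mem_subgroupOf] at hg
    have hgB : g * y * g⁻¹ ∈ P'.B := by
      rw [hB', Subgroup.mem_subgroupOf]
      exact h.U_le hg
    have hiff : ((g * y * g⁻¹ : ↥PK) : G) ∈ UK K ↔ (y : G) ∈ UK K := by
      constructor
      · intro h1
        have := h.UK_normal K hK _ (g⁻¹).2 _ h1
        simp only [Subgroup.coe_mul, Subgroup.coe_inv, inv_inv] at this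
        have e : (g : G)⁻¹ * ((g : G) * (y : G) * (g : G)⁻¹) * (g : G) = (y : G) := by group
        rw [e] at this
        exact this
      · intro h1
        have := h.UK_normal K hK _ g.2 _ h1
        simpa only [Subgroup.coe_mul, Subgroup.coe_inv] using this
    have hsum := altsum_restrict P I s h.s_mem K hK P' hB' rfl rfl
      (fun J₀ hJ₀ => restrict_parabolic P _ hJK J₀ hJ₀) (BK K) n1 hn1 hdesc hcf
      ⟨g * y * g⁻¹, hgB⟩
    have hconj : ∀ J ∈ K.powerset, (-1 : ℤ) ^ J.card *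
          (Nat.card (MulAction.fixedBy (↥PK ⧸ (P.parabolic (s '' (J : Set ℕ))).subgroupOf PK) y) : ℤ)
        = (-1 : ℤ) ^ J.card * (Nat.card (MulAction.fixedBy
            (↥PK ⧸ (P.parabolic (s '' (J : Set ℕ))).subgroupOf PK) (g * y * g⁻¹)) : ℤ) := by
      intro J _
      rw [card_fixedBy_conj]
    rw [Finset.sum_congr rfl hconj]
    rw [hsum]
    by_cases hyK : (y : G) ∈ UK K
    · rw [if_pos hyK]
      have hb : (⟨g * y * g⁻¹, hgB⟩ : ↥P'.B) ∈ M₀ := by
        rw [hmemM]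
        exact hiff.2 hyK
      have := card_fixedBy_of_mem_normal K₀ M₀ hMK hb
      rw [this]
    · rw [if_neg hyK]
      have hbU : (⟨g * y * g⁻¹, hgB⟩ : ↥P'.B) ∈ U₀ := by
        rw [hmemU]
        exact hg
      have hbM : (⟨g * y * g⁻¹, hgB⟩ : ↥P'.B) ∉ M₀ := by
        rw [hmemM]
        exact fun h1 => hyK (hiff.1 h1)
      have := card_fixedBy_eq_zero K₀ U₀ M₀ hUK hbU hbM
      rw [this]
      rfl

theorem card_fixedBy_one {Γ : Type*} [Group Γ] (Q : Subgroup Γ) :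
    Nat.card (MulAction.fixedBy (Γ ⧸ Q) (1 : Γ)) = Q.index := by
  have h : MulAction.fixedBy (Γ ⧸ Q) (1 : Γ) = Set.univ := by
    ext c
    simp
  rw [h, Nat.card_congr (Equiv.Set.univ _)]
  rfl

omit [Finite G] in
/-- elements of a `p`-group have `p`-power order -/
theorem isP_of_mem {U : Subgroup G} (hU : IsPGroup p U) {g : G} (hg : g ∈ U) :
    ∃ k, orderOf g = p ^ k := by
  obtain ⟨k, hk⟩ := (IsPGroup.iff_orderOf.1 hU) ⟨g, hg⟩
  exact ⟨k, by rw [← hk, Subgroup.orderOf_mk]⟩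

open Classical in
/-- the alternating sum of the numbers of elements of `p`-power order of the parabolic subgroups
contained in `P_K` -/
theorem stK_sum (h : SplitData P p I s U UK BK) (K : Finset ℕ) (hK : K ⊆ I) :
    ∃ c : ℕ, c * Nat.card (BK K) = Nat.card P.B ∧
      ∑ J ∈ K.powerset, (-1 : ℤ) ^ J.card *
        (((P.parabolic (s '' (J : Set ℕ))).relIndex (P.parabolic (s '' (K : Set ℕ))) : ℤ) *
          (nP P p s J : ℤ)) = (c : ℤ) * (Nat.card (UK K) : ℤ) ∧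
      ∑ J ∈ K.powerset, (-1 : ℤ) ^ J.card *
        ((P.parabolic (s '' (J : Set ℕ))).relIndex (P.parabolic (s '' (K : Set ℕ))) : ℤ)
          = (c : ℤ) := by
  obtain ⟨c, hc, hval⟩ := altsum_value P h K hK
  set PK := P.parabolic (s '' (K : Set ℕ)) with hPK
  have hBΓ : P.B ≤ PK := BN.B_le_parabolic P _
  have : Fintype ↥PK := Fintype.ofFinite _
  refine ⟨c, hc, ?_, ?_⟩
  · -- sum over the elements of `p`-power order
    have hconj : ∀ g x : ↥PK, (∃ k, orderOf x = p ^ k) → ∃ k, orderOf (g * x * g⁻¹) = p ^ k := by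
      intro g x hx
      have : g * x * g⁻¹ = MulAut.conj g x := rfl
      rw [this, MulEquiv.orderOf_eq]
      exact hx
    have h1 : ∀ J ∈ K.powerset,
        (((P.parabolic (s '' (J : Set ℕ))).relIndex PK : ℤ) * (nP P p s J : ℤ))
        = ∑ y ∈ Finset.univ.filter (fun y : ↥PK => ∃ k, orderOf y = p ^ k),
            (Nat.card (MulAction.fixedBy
              (↥PK ⧸ (P.parabolic (s '' (J : Set ℕ))).subgroupOf PK) y) : ℤ) := by
      intro J hJ
      rw [Finset.mem_powerset] at hJ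
      have hJK : P.parabolic (s '' (J : Set ℕ)) ≤ PK :=
        BN.parabolic_mono P (Set.image_mono (by exact_mod_cast hJ))
      have hcardJ : Nat.card {x : ↥((P.parabolic (s '' (J : Set ℕ))).subgroupOf PK) //
          ∃ k, orderOf (x : ↥PK) = p ^ k} = nP P p s J := by
        unfold nP
        apply Nat.card_congr
        refine ⟨fun x => ⟨((x.1 : ↥PK) : G), Subgroup.mem_subgroupOf.1 x.1.2, ?_⟩,
          fun g => ⟨⟨⟨g.1, hJK g.2.1⟩, Subgroup.mem_subgroupOf.2 g.2.1⟩, ?_⟩, ?_, ?_⟩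
        · obtain ⟨k, hk⟩ := x.2
          exact ⟨k, by rw [← hk, Subgroup.orderOf_coe]⟩
        · obtain ⟨k, hk⟩ := g.2.2
          refine ⟨k, ?_⟩
          rw [← hk, ← Subgroup.orderOf_coe]
        · intro x
          rfl
        · intro x
          rfl
      rw [← Nat.cast_sum, sum_card_fixedBy _ _ hconj, Nat.cast_mul, hcardJ]
      rfl
    rw [Finset.sum_congr rfl (fun J hJ => by rw [h1 J hJ])]
    simp_rw [Finset.mul_sum]
    rw [Finset.sum_comm]
    rw [Finset.sum_congr rfl (fun y hy => hval y (Finset.mem_filter.1 hy).2)]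
    have hUKΓ : UK K ≤ PK := (h.UK_le K hK).trans (h.U_le.trans hBΓ)
    have hcardUK : ((Finset.univ.filter (fun y : ↥PK => ∃ k, orderOf y = p ^ k)).filter
        (fun y : ↥PK => (y : G) ∈ UK K)).card = Nat.card (UK K) := by
      rw [Finset.filter_filter, ← Fintype.card_subtype, ← Nat.card_eq_fintype_card]
      apply Nat.card_congr
      refine ⟨fun y => ⟨(y.1 : G), y.2.2⟩, fun u => ⟨⟨u.1, hUKΓ u.2⟩, ?_, u.2⟩, ?_, ?_⟩
      · obtain ⟨k, hk⟩ := isP_of_mem (h.U_p) (h.UK_le K hK u.2)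
        refine ⟨k, ?_⟩
        rw [← hk, ← Subgroup.orderOf_coe]
      · intro y
        rfl
      · intro u
        rfl
    rw [Finset.sum_ite, Finset.sum_const_zero, add_zero, Finset.sum_const, nsmul_eq_mul, hcardUK,
      mul_comm]
  · have := hval 1 ⟨0, by simp⟩
    rw [if_pos (by simp)] at this
    rw [← this]
    apply Finset.sum_congr rfl
    intro J _
    rw [card_fixedBy_one]
    rfl

omit [Finite G] hp in
theorem card_mul_relIndex_of_le {H K : Subgroup G} (hHK : H ≤ K) :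
    Nat.card H * H.relIndex K = Nat.card K := by
  have := Subgroup.relIndex_mul_relIndex (⊥ : Subgroup G) H K bot_le hHK
  rwa [Subgroup.relIndex_bot_left, Subgroup.relIndex_bot_left] at this

omit [Finite G] hp in
/-- the full parabolic subgroup -/
theorem parabolic_image_eq_top (h : SplitData P p I s U UK BK) :
    P.parabolic (s '' (I : Set ℕ)) = ⊤ := by
  have hS : s '' (I : Set ℕ) = P.S := by
    ext x
    constructor
    · rintro ⟨j, hj, rfl⟩
      exact h.s_mem j hj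
    · intro hx
      obtain ⟨j, hj, rfl⟩ := h.s_surj x hx
      exact ⟨j, hj, rfl⟩
  rw [hS, eq_top_iff, ← P.sup_eq_top]
  apply sup_le (BN.B_le_parabolic P _)
  rw [← P.closure_sup]
  apply sup_le (closure_le_parabolic P _)
  exact le_trans inf_le_left (BN.B_le_parabolic P _)

open Classical in
/-- the number of elements of `p`-power order is `|U|²` -/
theorem card_pElements (h : SplitData P p I s U UK BK) :
    Nat.card {g : G // ∃ k, orderOf g = p ^ k} = Nat.card U ^ 2 := by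
  have hcU : ∀ K ⊆ I, ∀ c : ℕ, c * Nat.card (BK K) = Nat.card P.B →
      c * Nat.card (UK K) = Nat.card U := by
    intro K hK c hc
    have h1 := h.card_eq K hK
    rw [← hc] at h1
    have hpos : 0 < Nat.card (BK K) := Nat.card_pos
    apply Nat.eq_of_mul_eq_mul_left hpos
    rw [h1]
    ring
  have hposP : ∀ J : Finset ℕ, (0 : ℚ) < (Nat.card (P.parabolic (s '' (J : Set ℕ))) : ℚ) := by
    intro J
    exact_mod_cast Nat.card_pos
  -- the identities
  have hfg : ∀ K ⊆ I, ∑ J ∈ K.powerset, (-1 : ℚ) ^ J.card *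
      ((nP P p s J : ℚ) / (Nat.card (P.parabolic (s '' (J : Set ℕ))) : ℚ))
      = (Nat.card U : ℚ) / (Nat.card (P.parabolic (s '' (K : Set ℕ))) : ℚ) := by
    intro K hK
    obtain ⟨c, hc, h1, -⟩ := stK_sum P h K hK
    have h2 := hcU K hK c hc
    have h3 := congrArg (fun z : ℤ => (z : ℚ)) h1
    simp only [Int.cast_sum, Int.cast_mul, Int.cast_pow, Int.cast_neg, Int.cast_one,
      Int.cast_natCast] at h3
    rw [eq_div_iff (ne_of_gt (hposP K)), Finset.sum_mul]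
    have h4 : (c : ℚ) * (Nat.card (UK K) : ℚ) = (Nat.card U : ℚ) := by exact_mod_cast h2
    rw [← h4, ← h3]
    apply Finset.sum_congr rfl
    intro J hJ
    rw [Finset.mem_powerset] at hJ
    have hJK : P.parabolic (s '' (J : Set ℕ)) ≤ P.parabolic (s '' (K : Set ℕ)) :=
      BN.parabolic_mono P (Set.image_mono (by exact_mod_cast hJ))
    have h5 : (Nat.card (P.parabolic (s '' (J : Set ℕ))) : ℚ) *
        ((P.parabolic (s '' (J : Set ℕ))).relIndex (P.parabolic (s '' (K : Set ℕ))) : ℚ)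
        = (Nat.card (P.parabolic (s '' (K : Set ℕ))) : ℚ) := by
      exact_mod_cast card_mul_relIndex_of_le hJK
    rw [← h5]
    field_simp [ne_of_gt (hposP J)]
  have hinv := powerset_inversion I
    (fun J => (nP P p s J : ℚ) / (Nat.card (P.parabolic (s '' (J : Set ℕ))) : ℚ))
    (fun K => (Nat.card U : ℚ) / (Nat.card (P.parabolic (s '' (K : Set ℕ))) : ℚ)) hfg I
    (Finset.Subset.refl I)
  -- the full group
  have htop := parabolic_image_eq_top P h
  obtain ⟨c, hc, -, h6⟩ := stK_sum P h I (Finset.Subset.refl I)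
  have h7 := hcU I (Finset.Subset.refl I) c hc
  rw [h.UK_top, Subgroup.card_bot, mul_one] at h7
  have hG : (Nat.card (P.parabolic (s '' (I : Set ℕ))) : ℚ) = (Nat.card G : ℚ) := by
    rw [htop, Subgroup.card_top]
  have h8 := congrArg (fun z : ℤ => (z : ℚ)) h6
  simp only [Int.cast_sum, Int.cast_mul, Int.cast_pow, Int.cast_neg, Int.cast_one,
    Int.cast_natCast] at h8
  have hGpos : (0 : ℚ) < (Nat.card G : ℚ) := by exact_mod_cast Nat.card_pos
  -- the sum of the indices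
  have h9 : ∑ J ∈ I.powerset, (-1 : ℚ) ^ J.card *
      ((Nat.card U : ℚ) / (Nat.card (P.parabolic (s '' (J : Set ℕ))) : ℚ))
      = (Nat.card U : ℚ) * ((c : ℚ) / (Nat.card G : ℚ)) := by
    rw [← h8, Finset.sum_div, Finset.mul_sum]
    apply Finset.sum_congr rfl
    intro J hJ
    rw [Finset.mem_powerset] at hJ
    have hJK : P.parabolic (s '' (J : Set ℕ)) ≤ P.parabolic (s '' (I : Set ℕ)) :=
      BN.parabolic_mono P (Set.image_mono (by exact_mod_cast hJ))
    have h5 : (Nat.card (P.parabolic (s '' (J : Set ℕ))) : ℚ) *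
        ((P.parabolic (s '' (J : Set ℕ))).relIndex (P.parabolic (s '' (I : Set ℕ))) : ℚ)
        = (Nat.card G : ℚ) := by
      rw [← hG]
      exact_mod_cast card_mul_relIndex_of_le hJK
    have hri : ((P.parabolic (s '' (J : Set ℕ))).relIndex (P.parabolic (s '' (I : Set ℕ))) : ℚ)
        ≠ 0 := by
      intro h0
      rw [h0, mul_zero] at h5
      exact (ne_of_gt hGpos) h5.symm
    rw [← h5]
    field_simp [ne_of_gt (hposP J), hri]
  rw [h9, hG, h7] at hinv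
  have h10 : (nP P p s I : ℚ) = (Nat.card U : ℚ) * (Nat.card U : ℚ) := by
    field_simp [ne_of_gt hGpos] at hinv
    linarith
  have h11 : nP P p s I = Nat.card U * Nat.card U := by exact_mod_cast h10
  rw [pow_two, ← h11]
  unfold nP
  apply Nat.card_congr
  refine ⟨fun g => ⟨g.1, by rw [htop]; exact Subgroup.mem_top _, g.2⟩, fun g => ⟨g.1, g.2.2⟩, ?_, ?_⟩
  · intro g
    rfl
  · intro g
    rfl

end stK

end Cfsg.Agent.Lib.Helper5.Unip
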