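import Mathlib
import Cfsg.Agent.Lib.Helper5.Unip.Abstract
import Cfsg.Agent.Lib.Helper5.Unip.ChevFacts

/-!
# The number of elements of `p`-power order of a Chevalley group (helper5)
-/

set_option autoImplicit false

namespace Cfsg.Agent.Lib.Helper5.Unip

open Cfsg Cfsg.Lie Cfsg.Agent.Lib.Helper5 Cfsg.Agent.Lib.Helper5.Chev
open scoped Matrix

variable {F : Type*} [Field F] [Fintype F]

set_option maxHeartbeats 1600000 in
/-- the data of the split (B,N)-pair of a Chevalley group -/
theorem splitData_chev (D : ChevalleyDatum)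
    (hD : D ∈ [chevG2, chevB2, chevD4, chevF4, chevE6, chevE7, chevE8]) (p : ℕ)
    [hp : Fact p.Prime] [CharP F p] :
    ∃ (P : BNPair ↥(D.group F)) (s : ℕ → ↥(D.group F)),
      SplitData P p (Finset.range D.rank) s ((D.posUnipotent F).subgroupOf (D.group F))
        (fun K => (D.unipotentRadical F (K : Set ℕ)).subgroupOf (D.group F))
        (fun K => (D.unipotentRadical F (K : Set ℕ) ⊔ D.diagonalSubgroup F).subgroupOf
          (D.group F)) := by
  have hadd := allAdd_all (F := F) D hD
  obtain ⟨P, hPB, hPN, hPS⟩ := bnPair_all (F := F) D hD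
  obtain ⟨T, Bs, mLL, gH, baseH, fuel, hA, hB, hr, hbase, hcox⟩ := cox_known D hD
  obtain ⟨hc1, hc2⟩ := cox_of_check T Bs mLL hcox
  have hBG : D.borelSubgroup F ≤ D.group F := hadd.borel_le
  have hNG : D.monomialSubgroup F ≤ D.group F := hadd.monomial_le
  have hHB : D.diagonalSubgroup F ≤ D.borelSubgroup F := le_sup_right
  have hUB : D.posUnipotent F ≤ D.borelSubgroup F := le_sup_left
  have hUG : D.posUnipotent F ≤ D.group F := hadd.posUnipotent_le
  have hUKU : ∀ K : Set ℕ, D.unipotentRadical F K ≤ D.posUnipotent F :=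
    fun K => unipotentRadical_le_pos D K
  have hBKB : ∀ K : Set ℕ, D.unipotentRadical F K ⊔ D.diagonalSubgroup F ≤ D.borelSubgroup F :=
    fun K => sup_le ((hUKU K).trans hUB) hHB
  -- the generators
  let s : ℕ → ↥(D.group F) := fun j => ⟨nUi hA hadd j, hNG (nUi_mem hA hadd j)⟩
  have hsS : ∀ j ∈ Finset.range D.rank, s j ∈ P.S := by
    intro j hj
    rw [hPS]
    exact ⟨j, Finset.mem_range.1 hj, nUi_val hA hadd (Finset.mem_range.1 hj)⟩
  -- the parabolic subgroups
  have hpar : ∀ K : Finset ℕ, K ⊆ Finset.range D.rank →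
      P.parabolic (s '' (K : Set ℕ))
        = (D.parabolicSubgroup F (K : Set ℕ)).subgroupOf (D.group F) := by
    intro K hK
    unfold ChevalleyDatum.parabolicSubgroup BNPair.parabolic
    have hcl : Subgroup.closure {g : GL D.Idx F | ∃ j ∈ (K : Set ℕ), j < D.rank ∧
        (g : Matrix D.Idx D.Idx F) = D.nMat F (D.simple j) 1} ≤ D.group F := by
      rw [Subgroup.closure_le]
      rintro g ⟨j, -, hj, hg⟩
      have : g = nUi hA hadd j := Units.ext (by rw [hg, nUi_val hA hadd hj])
      rw [this]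
      exact hNG (nUi_mem hA hadd j)
    rw [sup_subgroupOf_of_le _ _ _ hBG hcl, hPB]
    congr 1
    rw [closure_subgroupOf_of_subset _ _ ((Subgroup.closure_le _).1 hcl)]
    congr 1
    ext x
    constructor
    · rintro ⟨j, hj, rfl⟩
      have hjr := Finset.mem_range.1 (hK (Finset.mem_coe.1 hj))
      exact ⟨j, hj, hjr, nUi_val hA hadd hjr⟩
    · rintro ⟨j, hj, hjr, hx⟩
      refine ⟨j, hj, ?_⟩
      apply Subtype.ext
      apply Units.ext
      rw [hx]
      exact nUi_val hA hadd hjr
  refine ⟨P, s, ?_⟩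
  constructor
  · exact hsS
  · -- s_surj
    intro x hx
    rw [hPS] at hx
    obtain ⟨j, hj, hxj⟩ := hx
    refine ⟨j, Finset.mem_range.2 hj, ?_⟩
    apply Subtype.ext
    apply Units.ext
    rw [hxj]
    exact (nUi_val hA hadd hj).symm
  · -- U_le
    rw [hPB]
    intro x hx
    rw [Subgroup.mem_subgroupOf] at hx ⊢
    exact hUB hx
  · -- U_p
    exact (isPGroup_posUnipotent D hD p).comap_subtype
  · exact pos_index_not_dvd D hD p
  · -- U_normal
    intro b hb u hu
    rw [hPB, Subgroup.mem_subgroupOf] at hb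
    rw [Subgroup.mem_subgroupOf] at hu ⊢
    simp only [Subgroup.coe_mul, Subgroup.coe_inv]
    exact (conj_mem_of_normalizer _ _ _ (borel_le_normalizer_all D hD hb) hu).1
  · -- p_mem
    intro b hb hbp
    rw [hPB, Subgroup.mem_subgroupOf] at hb
    rw [Subgroup.mem_subgroupOf]
    apply mem_pos_of_isP D hD p _ hb
    obtain ⟨k, hk⟩ := hbp
    exact ⟨k, by rw [← hk, Subgroup.orderOf_coe]⟩
  · -- UK_le
    intro K _ x hx
    rw [Subgroup.mem_subgroupOf] at hx ⊢
    exact hUKU _ hx
  · -- UK_le_BK
    intro K _ x hx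
    rw [Subgroup.mem_subgroupOf] at hx ⊢
    exact Subgroup.mem_sup_left hx
  · -- BK_le
    intro K _ x hx
    rw [hPB]
    rw [Subgroup.mem_subgroupOf] at hx ⊢
    exact hBKB _ hx
  · -- UK_normal
    intro K hK g hg u hu
    rw [hpar K hK, Subgroup.mem_subgroupOf] at hg
    rw [Subgroup.mem_subgroupOf] at hu ⊢
    simp only [Subgroup.coe_mul, Subgroup.coe_inv]
    exact (conj_mem_of_normalizer _ _ _
      ((levi_decomposition_all (F := F) D hD (K : Set ℕ)).1 hg) hu).1
  · -- U_inf_BK
    intro K _ x hx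
    rw [Subgroup.mem_inf, Subgroup.mem_subgroupOf, Subgroup.mem_subgroupOf] at hx
    rw [Subgroup.mem_subgroupOf]
    exact pos_inf_BK D hD _ ⟨hx.1, hx.2⟩
  · -- card_eq
    intro K _
    have e1 : Nat.card ((D.unipotentRadical F (K : Set ℕ) ⊔ D.diagonalSubgroup F).subgroupOf
        (D.group F)) = Nat.card ↥(D.unipotentRadical F (K : Set ℕ) ⊔ D.diagonalSubgroup F) :=
      Nat.card_congr (Subgroup.subgroupOfEquivOfLe ((hBKB _).trans hBG)).toEquiv
    have e2 : Nat.card ((D.posUnipotent F).subgroupOf (D.group F))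
        = Nat.card (D.posUnipotent F) :=
      Nat.card_congr (Subgroup.subgroupOfEquivOfLe hUG).toEquiv
    have e3 : Nat.card P.B = Nat.card (D.borelSubgroup F) := by
      rw [hPB]
      exact Nat.card_congr (Subgroup.subgroupOfEquivOfLe hBG).toEquiv
    have e4 : Nat.card ((D.unipotentRadical F (K : Set ℕ)).subgroupOf (D.group F))
        = Nat.card (D.unipotentRadical F (K : Set ℕ)) :=
      Nat.card_congr (Subgroup.subgroupOfEquivOfLe ((hUKU _).trans hUG)).toEquiv
    rw [e1, e2, e3, e4, card_BK D hD, card_borel D hD]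
    ring
  · -- longest
    intro K hK
    obtain ⟨n1, hn1, hdesc, hcf⟩ := exists_nK (F := F) D hD (K : Set ℕ) hadd
    have hclG : Subgroup.closure (nKSet F D (K : Set ℕ)) ≤ D.group F := by
      rw [Subgroup.closure_le]
      rintro g ⟨j, -, hj, hg⟩
      have : g = nUi hA hadd j := Units.ext (by rw [hg, nUi_val hA hadd hj])
      rw [this]
      exact hNG (nUi_mem hA hadd j)
    have hn1G : n1 ∈ D.group F := hclG hn1
    refine ⟨⟨n1, hn1G⟩, ?_, ?_, ?_⟩
    · -- in the closure of the generators
      have h1 : (⟨n1, hn1G⟩ : ↥(D.group F)) ∈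
          (Subgroup.closure (nKSet F D (K : Set ℕ))).subgroupOf (D.group F) := by
        rw [Subgroup.mem_subgroupOf]
        exact hn1
      rw [closure_subgroupOf_of_subset _ _ ((Subgroup.closure_le _).1 hclG)] at h1
      have e : {x : ↥(D.group F) | (x : GL D.Idx F) ∈ nKSet F D (K : Set ℕ)}
          = s '' (K : Set ℕ) := by
        ext x
        constructor
        · rintro ⟨j, hj, hjr, hx⟩
          refine ⟨j, hj, ?_⟩
          apply Subtype.ext
          apply Units.ext
          rw [hx]
          exact nUi_val hA hadd hjr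
        · rintro ⟨j, hj, rfl⟩
          have hjr := Finset.mem_range.1 (hK (Finset.mem_coe.1 hj))
          exact ⟨j, hj, hjr, nUi_val hA hadd hjr⟩
      rw [e] at h1
      exact h1
    · -- the left descents
      intro j hj
      have hjr := Finset.mem_range.1 (hK hj)
      obtain ⟨hp', hq'⟩ := simple_lt_all D hD j hjr
      have hx1 : hadd.xU (D.simple j) (-1) ∈ D.borelSubgroup F :=
        hUB (Subgroup.subset_closure ⟨_, _, pos_simple_all D hD j hjr, rfl⟩)
      have hbP : (⟨hadd.xU (D.simple j) (-1), hBG hx1⟩ : ↥(D.group F)) ∈ P.B := by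
        rw [hPB, Subgroup.mem_subgroupOf]; exact hx1
      refine ⟨⟨hadd.xU (D.simple j) (-1), hBG hx1⟩, hbP,
        ⟨hadd.xU (D.simple j) (-1), hBG hx1⟩, hbP, ?_⟩
      rw [hPB, Subgroup.mem_subgroupOf]
      have e : hadd.xU (D.simple j) (-1) * nUi hA hadd j * hadd.xU (D.simple j) (-1)
          = hadd.xU (D.neg (D.simple j)) (-1) := by
        apply Units.ext
        show D.x F (D.simple j) (-1) * ((nUi hA hadd j : GL D.Idx F) : Matrix D.Idx D.Idx F)
            * D.x F (D.simple j) (-1) = D.x F (D.neg (D.simple j)) (-1)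
        rw [nUi_val hA hadd hjr, nMat_one]
        have h1 : D.x F (D.simple j) (-1) * D.x F (D.simple j) 1 = 1 := by
          rw [hadd.x_add, neg_add_cancel, x_zero]
        have h2 : D.x F (D.simple j) 1 * D.x F (D.simple j) (-1) = 1 := by
          rw [hadd.x_add, add_neg_cancel, x_zero]
        symm
        calc D.x F (D.neg (D.simple j)) (-1)
            = (D.x F (D.simple j) (-1) * D.x F (D.simple j) 1) * D.x F (D.neg (D.simple j)) (-1)
              * (D.x F (D.simple j) 1 * D.x F (D.simple j) (-1)) := by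
              rw [h1, h2, Matrix.one_mul, Matrix.mul_one]
          _ = _ := by simp only [Matrix.mul_assoc]
      have e2 : (((⟨n1, hn1G⟩ : ↥(D.group F))⁻¹ *
          ((⟨hadd.xU (D.simple j) (-1), hBG hx1⟩ : ↥(D.group F)) * s j *
            ⟨hadd.xU (D.simple j) (-1), hBG hx1⟩) * ⟨n1, hn1G⟩ : ↥(D.group F)) : GL D.Idx F)
          = n1⁻¹ * hadd.xU (D.neg (D.simple j)) (-1) * n1 := by
        rw [← e]
        rfl
      rw [e2]
      exact hUB (hdesc j (Finset.mem_coe.2 hj) hjr)
    · -- the stabilizer of the big cell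
      intro β hβ
      rw [hPB, Subgroup.mem_subgroupOf] at hβ
      rw [hPB, Subgroup.mem_subgroupOf, Subgroup.mem_subgroupOf]
      exact hcf _ hβ
  · -- UK_top
    show (D.unipotentRadical F ((Finset.range D.rank : Finset ℕ) : Set ℕ)).subgroupOf (D.group F) = ⊥
    rw [unipotentRadical_range]
    exact Subgroup.bot_subgroupOf _

/-- Steinberg's count of the elements of `p`-power order -/
theorem card_pElements_chev (D : ChevalleyDatum)
    (hD : D ∈ [chevG2, chevB2, chevD4, chevF4, chevE6, chevE7, chevE8]) (p : ℕ)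
    [hp : Fact p.Prime] [CharP F p] :
    Nat.card {g : ↥(D.group F) // ∃ k : ℕ, orderOf g = p ^ k}
      = Fintype.card F ^ (2 * (D.nroots / 2)) := by
  have hadd := allAdd_all (F := F) D hD
  obtain ⟨P, s, h⟩ := splitData_chev (F := F) D hD p
  have hfin : Finite ↥(D.group F) := inferInstance
  rw [card_pElements P h]
  have e2 : Nat.card ((D.posUnipotent F).subgroupOf (D.group F))
      = Nat.card (D.posUnipotent F) :=
    Nat.card_congr (Subgroup.subgroupOfEquivOfLe hadd.posUnipotent_le).toEquiv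
  rw [e2, card_posUnipotent_all D hD, Nat.card_eq_fintype_card, ← pow_mul, mul_comm]

end Cfsg.Agent.Lib.Helper5.Unip
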